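import Groth.Agent.H9GalCoh.Killing
import Mathlib.CategoryTheory.Limits.Preserves.Finite
import Mathlib.Algebra.Homology.ShortComplex.Ab

/-!
# Vanishing of `H¹` of a field from triviality of finite Galois cocycles
-/

set_option autoImplicit false
set_option linter.style.haveILetI false
set_option backward.isDefEq.respectTransparency false
set_option backward.isDefEq.respectTransparency.types false

universe u

open CategoryTheory CategoryTheory.Limits AlgebraicGeometry Opposite Abelian

namespace Groth.Agent.H9GalCoh.H1Galois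

variable {K : Type u} [Field K]

/-- The action of a Galois element on `Spec M`. -/
noncomputable def gm (M : Type u) [Field M] [Algebra K M] [FiniteDimensional K M] [Algebra.IsSeparable K M]
    (σ : M ≃ₐ[K] M) : Transfer.sp K M ⟶ Transfer.sp K M :=
  MorphismProperty.Over.homMk (Spec.map (CommRingCat.ofHom σ.toAlgHom.toRingHom)) (by
    show Spec.map _ ≫ Spec.map _ = Spec.map _
    rw [← Spec.map_comp]
    exact congrArg Spec.map (CommRingCat.hom_ext (RingHom.ext fun x => σ.commutes x)))

theorem map_gm_mul (M : Type u) [Field M] [Algebra K M] [FiniteDimensional K M] [Algebra.IsSeparable K M]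
    (F : EtCoh.Ab (Spec (CommRingCat.of K))) (σ τ : M ≃ₐ[K] M) (x : F.obj.obj (op (Transfer.sp K M))) :
    F.obj.map (gm M (σ * τ)).op x = F.obj.map (gm M σ).op (F.obj.map (gm M τ).op x) := by
  rw [show gm M (σ * τ) = gm M σ ≫ gm M τ from MorphismProperty.Over.Hom.ext (by show Spec.map _ = Spec.map _ ≫ Spec.map _; rw [← Spec.map_comp]; rfl),
    ← ConcreteCategory.comp_apply, ← Functor.map_comp, ← op_comp]

/-- A finite separable extension lies in a finite Galois one. -/
theorem exists_galois_over (L : Type u) [Field L] [Algebra K L] [FiniteDimensional K L] [Algebra.IsSeparable K L]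
    [AlgebraicGeometry.Etale (Transfer.str K L)] :
    ∃ (M : Type u) (_ : Field M) (_ : Algebra K M) (_ : FiniteDimensional K M) (_ : IsGalois K M),
      Nonempty (Transfer.sp K M ⟶ H18Et.FreeSheaf.obj (Transfer.str K L)) := by
  let Ω := SeparableClosure K
  let φ₀ : L →ₐ[K] Ω := IsSepClosed.lift
  letI : Algebra L Ω := φ₀.toRingHom.toAlgebra
  haveI : IsScalarTower K L Ω := IsScalarTower.of_algebraMap_eq fun x => (φ₀.commutes x).symm
  let M := IntermediateField.normalClosure K L Ω
  haveI : IsGalois K M := IsGalois.normalClosure K L Ω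
  refine ⟨M, inferInstance, inferInstance, inferInstance, inferInstance,
    ⟨MorphismProperty.Over.homMk (Spec.map (CommRingCat.ofHom (algebraMap L M))) ?_⟩⟩
  show Spec.map _ ≫ (EtCoh.top (Spec (CommRingCat.of L))).hom ≫ Spec.map _ = Spec.map _
  rw [show (EtCoh.top (Spec (CommRingCat.of L))).hom = 𝟙 _ from rfl]
  erw [Category.id_comp]
  rw [← Spec.map_comp, ← CommRingCat.ofHom_comp, ← IsScalarTower.algebraMap_eq]

/-- If all finite Galois cocycles with values in `F` are coboundaries, `H¹(K, F) = 0`. -/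
theorem subsingleton_H1 (F : EtCoh.Ab (Spec (CommRingCat.of K)))
    (h : ∀ (M : Type u) [Field M] [Algebra K M] [FiniteDimensional K M] [IsGalois K M]
      (c : (M ≃ₐ[K] M) → F.obj.obj (op (Transfer.sp K M))),
      (∀ σ τ, c (σ * τ) = F.obj.map (gm M σ).op (c τ) + c σ) →
      ∃ v, ∀ σ, c σ = F.obj.map (gm M σ).op v - v) :
    Subsingleton (EtCoh.H (Spec (CommRingCat.of K)) F 1) := by
  classical
  refine subsingleton_of_forall_eq 0 fun α => ?_
  let S := ShortComplex.mk (Injective.ι F) (cokernel.π (Injective.ι F)) (cokernel.condition _)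
  have hS : S.ShortExact := { exact := ShortComplex.exact_cokernel _ }
  haveI : Injective S.X₂ := Injective.injective_under F
  obtain ⟨β, rfl⟩ := Ext.covariant_sequence_exact₁ _ hS α (Ext.eq_zero_of_injective _) rfl
  obtain ⟨φ, rfl⟩ := (Ext.mk₀_bijective _ _).surjective β
  let top := EtCoh.top (Spec (CommRingCat.of K))
  let hterm := EtCore.topIsTerminal (Spec (CommRingCat.of K))
  let s := Sheaf.H.equiv₀ S.X₃ hterm (Ext.mk₀ φ)
  haveI : Sheaf.IsLocallySurjective S.g := (Sheaf.isLocallySurjective_iff_epi' _ S.g).2 hS.epi_g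
  have hR := Presheaf.imageSieve_mem (Spec (CommRingCat.of K)).smallEtaleTopology S.g.hom s
  let p₀ : ↥(Spec (CommRingCat.of K)) := (default : PrimeSpectrum K)
  obtain ⟨W, ρ, w, hρ, -⟩ := H18Et.Subterminal.exists_mem_of_cover hR p₀
  obtain ⟨L, _, _, _, _, _, ⟨a⟩⟩ := Killing.exists_field_point W w
  obtain ⟨M, _, _, _, _, ⟨b⟩⟩ := exists_galois_over (K := K) L
  let Y := Transfer.sp K M
  obtain ⟨t, ht⟩ : ∃ t : S.X₂.obj.obj (op Y), S.g.hom.app (op Y) t = S.X₃.obj.map (hterm.from Y).op s := by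
    obtain ⟨t, ht⟩ := hρ
    refine ⟨S.X₂.obj.map (b ≫ a).op t, ?_⟩
    rw [NatTrans.naturality_apply, ht, ← ConcreteCategory.comp_apply, ← Functor.map_comp, ← op_comp,
      hterm.hom_ext ((b ≫ a) ≫ ρ) (hterm.from Y)]
  let ev : EtCoh.Ab (Spec (CommRingCat.of K)) ⥤ AddCommGrpCat.{u + 1} :=
    (sheafSections _ AddCommGrpCat.{u + 1}).obj (op Y)
  have hev : (S.map ev).Exact ∧ Mono (S.map ev).f := by
    haveI : PreservesFiniteLimits ev := inferInstanceAs
      (PreservesFiniteLimits (sheafToPresheaf _ _ ⋙ (evaluation _ _).obj (op Y)))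
    haveI := hS.mono_f
    exact ⟨hS.exact.map_of_mono_of_preservesKernel ev hS.mono_f inferInstance, ev.map_mono S.f⟩
  have hinj : Function.Injective (S.f.hom.app (op Y)) := (AddCommGrpCat.mono_iff_injective (S.map ev).f).1 hev.2
  have hc : ∀ σ : M ≃ₐ[K] M, ∃ c, S.f.hom.app (op Y) c = S.X₂.obj.map (gm M σ).op t - t := by
    intro σ
    refine (ShortComplex.ab_exact_iff _).1 hev.1 _ ?_
    show S.g.hom.app (op Y) _ = 0
    rw [map_sub, NatTrans.naturality_apply, ht, ← ConcreteCategory.comp_apply, ← Functor.map_comp, ← op_comp,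
      hterm.hom_ext (gm M σ ≫ hterm.from Y) (hterm.from Y), sub_self]
  choose c hc using hc
  obtain ⟨v, hv⟩ := h M c fun σ τ => hinj (by
    rw [map_add, hc, NatTrans.naturality_apply, hc, hc, map_sub, map_gm_mul]
    abel)
  obtain ⟨t₀, ht₀⟩ := Transfer.exists_descent K M S.X₂ (t - S.f.hom.app (op Y) v) fun σ g hg => by
    rw [show g = gm M σ from MorphismProperty.Over.Hom.ext hg, map_sub]
    have h1 := hc σ
    rw [hv σ, map_sub, NatTrans.naturality_apply] at h1
    rw [sub_eq_sub_iff_sub_eq_sub]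
    exact h1.symm
  have hs : S.g.hom.app (op top) t₀ = s := by
    refine Transfer.res_injective K M S.X₃ ?_
    refine (NatTrans.naturality_apply S.g.hom (hterm.from Y).op t₀).symm.trans ?_
    rw [ht₀, map_sub, ht, show S.g.hom.app (op Y) (S.f.hom.app (op Y) v) = 0 from
      ConcreteCategory.congr_hom ((S.map ev).zero) v, sub_zero]
  let ψ := Ext.addEquiv₀ ((Sheaf.H.equiv₀ S.X₂ hterm).symm t₀)
  have hψ : ψ ≫ S.g = φ := by
    refine (Ext.mk₀_bijective _ _).injective ((Sheaf.H.equiv₀ S.X₃ hterm).injective ?_)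
    have h1 := Sheaf.H.equiv₀_naturality hterm S.g (Ext.mk₀ ψ)
    rw [Sheaf.H.map_apply, Ext.mk₀_comp_mk₀, show Ext.mk₀ ψ = (Sheaf.H.equiv₀ S.X₂ hterm).symm t₀ from
      Ext.addEquiv₀.symm_apply_apply _, AddEquiv.apply_symm_apply, hs] at h1
    exact h1.symm
  rw [← hψ, ← Ext.mk₀_comp_mk₀, Ext.comp_assoc (a₁₂ := 0) (a₂₃ := 1) _ _ _ (zero_add 0) (zero_add 1) (by omega),
    hS.comp_extClass, Ext.comp_zero]

end Groth.Agent.H9GalCoh.H1Galois
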