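import Groth.Agent.H9GalCoh.Sections
import Groth.Agent.H18Et.Cons.TorsionColim
import Groth.Agent.H18Et.Coh.SkyEmbed
import Groth.Agent.H18Et.Coh.Colimit
import Mathlib

/-!
# Dévissage of `p`-power torsion cohomology of a `p`-closed field to `ℤ/p`
-/

set_option autoImplicit false
set_option linter.style.haveILetI false
set_option backward.isDefEq.respectTransparency false
set_option backward.isDefEq.respectTransparency.types false

universe u

open CategoryTheory CategoryTheory.Limits AlgebraicGeometry Opposite Abelian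

namespace Groth.Agent.H9GalCoh.Dev

open scoped Groth.Agent.H18Et

variable {K : Type u} [Field K]

/-- The geometric point of a field given by a separable closure. -/
noncomputable abbrev xi (K : Type u) [Field K] :
    Spec (CommRingCat.of (SeparableClosure K)) ⟶ Spec (CommRingCat.of K) :=
  Transfer.str K (SeparableClosure K)

theorem killedBy_of_nsmul {X : Scheme.{u}} {F : EtCoh.Ab X} {N : ℕ} (h : N • 𝟙 F = 0) : EtCoh.KilledBy N F :=
  fun U s => by
    have h1 := congrArg (fun t : F ⟶ F => ((sheafToPresheaf _ _).map t).app (op U)) h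
    simp only [Functor.map_nsmul, CategoryTheory.Functor.map_id, NatTrans.app_nsmul, NatTrans.id_app,
      Functor.map_zero] at h1
    exact ConcreteCategory.congr_hom h1 s

theorem nsmul_of_killedBy {X : Scheme.{u}} {F : EtCoh.Ab X} {N : ℕ} (h : EtCoh.KilledBy N F) : N • 𝟙 F = 0 := by
  apply (sheafToPresheaf X.smallEtaleTopology AddCommGrpCat.{u + 1}).map_injective
  rw [Functor.map_nsmul, CategoryTheory.Functor.map_id, Functor.map_zero]
  ext U s
  rw [NatTrans.app_nsmul]
  exact h U.unop s

theorem stalk_surjective {X : Scheme.{u}} {Ω : Type u} [Field Ω] [IsSepClosed Ω]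
    (ξ : Spec (CommRingCat.of Ω) ⟶ X) {A B : EtCoh.Ab X} (f : A ⟶ B) [Epi f] :
    Function.Surjective ((EtCoh.stalk ξ).map f) := by
  haveI := ((Scheme.pointSmallEtale ξ).skyscraperSheafAdjunction
    (A := AddCommGrpCat.{u + 1})).leftAdjoint_preservesColimits
  haveI : Epi ((EtCoh.stalk ξ).map f) := inferInstance
  exact (AddCommGrpCat.epi_iff_surjective _).1 inferInstance

variable {p : ℕ} [Fact p.Prime]

/-- A section of order `p` gives a monomorphism from `ℤ/p`. -/
theorem exists_mono_of_section (F : EtCoh.Ab (Spec (CommRingCat.of K)))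
    (t : F.obj.obj (op (EtCoh.top (Spec (CommRingCat.of K))))) (ht0 : t ≠ 0) (htp : p • t = 0) :
    ∃ f : EtCoh.const (Spec (CommRingCat.of K)) (ZMod p) ⟶ F, Mono f ∧
      (EtCoh.stalk (xi K)).map f ≠ 0 := by
  let J := (Spec (CommRingCat.of K)).smallEtaleTopology
  let hT := EtCore.topIsTerminal (Spec (CommRingCat.of K))
  let zl : ZMod p →+ F.obj.obj (op (EtCoh.top (Spec (CommRingCat.of K)))) :=
    ZMod.lift p ⟨zmultiplesHom _ t, by rw [zmultiplesHom_apply, natCast_zsmul, htp]⟩
  have hzl : Function.Injective zl := by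
    refine (ZMod.lift_injective _).2 fun m hm => ?_
    change m • t = 0 at hm
    rw [ZMod.intCast_zmod_eq_zero_iff_dvd, ← addOrderOf_eq_prime htp ht0]
    exact addOrderOf_dvd_iff_zsmul_eq_zero.2 hm
  let c : (Functor.const _).obj (AddCommGrpCat.of (ULift.{u + 1} (ZMod p))) ⟶ F.obj :=
    { app := fun U => AddCommGrpCat.ofHom ((F.obj.map (hT.from U.unop).op).hom.comp
        (zl.comp AddEquiv.ulift.toAddMonoidHom))
      naturality := fun U V g => AddCommGrpCat.ext fun m => by
        change F.obj.map (hT.from V.unop).op (zl m.down) = F.obj.map g (F.obj.map (hT.from U.unop).op (zl m.down))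
        rw [← ConcreteCategory.comp_apply, ← Functor.map_comp]
        exact congrArg (fun z => F.obj.map z (zl m.down))
          (Quiver.Hom.unop_inj (hT.hom_ext _ _)) }
  let f : EtCoh.const (Spec (CommRingCat.of K)) (ZMod p) ⟶ F :=
    ((sheafificationAdjunction J AddCommGrpCat.{u + 1}).homEquiv _ F).symm c
  have hf : toSheafify J _ ≫ f.hom = c := by
    have := ((sheafificationAdjunction J AddCommGrpCat.{u + 1}).homEquiv _ F).apply_symm_apply c
    rw [Adjunction.homEquiv_unit] at this
    exact this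
  refine ⟨f, ?_, fun h => ?_⟩
  · haveI : Presheaf.IsLocallyInjective J c := ⟨fun {U} m m' h => by
      rcases isEmpty_or_nonempty U.unop.left with hU | hU
      · refine H18Et.mem_topology_of_forall_point _ fun x => isEmptyElim x
      · obtain rfl : m = m' := by
          refine ULift.ext _ _ (sub_eq_zero.1 (hzl (Eq.trans ?_ zl.map_zero.symm)))
          refine Sect.eq_zero_of_rest F _ U.unop hU.some ?_
          rw [map_sub, map_sub]
          exact sub_eq_zero.2 h
        simp⟩
    haveI := Presheaf.isLocallyInjective_of_isLocallyInjective_of_isLocallySurjective_fac J c hf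
    haveI : Sheaf.IsLocallyInjective f := this
    exact Sheaf.mono_of_isLocallyInjective _
  · obtain ⟨z, -⟩ := H18Et.exists_fiber_over (U := EtCoh.top (Spec (CommRingCat.of K)))
      ((xi K).base default) (xi K) rfl
    let s := (toSheafify J ((Functor.const _).obj (AddCommGrpCat.of (ULift.{u + 1} (ZMod p))))).app
      (op (EtCoh.top (Spec (CommRingCat.of K)))) (ULift.up 1)
    have hs : f.hom.app (op (EtCoh.top _)) s = t := by
      refine (ConcreteCategory.congr_hom (congr_app hf _) (ULift.up (1 : ZMod p))).trans ?_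
      change F.obj.map (hT.from (EtCoh.top _)).op (zl 1) = t
      rw [hT.from_self, op_id, CategoryTheory.Functor.map_id]
      show zl 1 = t
      rw [← Int.cast_one]
      exact (ZMod.lift_coe p _ 1).trans (one_zsmul t)
    have h1 : H18Et.germ (xi K) F _ z t = H18Et.germ (xi K) F _ z 0 := by
      refine Eq.trans ?_ (map_zero _).symm
      rw [← hs, ← H18Et.germ_naturality]
      exact ConcreteCategory.congr_hom h _
    obtain ⟨V, g, y, -, hV⟩ := (H18Et.germ_eq_iff (xi K) F _ z _ _).1 h1
    refine ht0 (Sect.eq_zero_of_rest F t V (H18Et.ptOf y) ?_)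
    rw [← hT.hom_ext g (hT.from V), hV, map_zero]

variable (q : ℕ) (hq : Subsingleton (EtCoh.H (Spec (CommRingCat.of K))
    (EtCoh.const (Spec (CommRingCat.of K)) (ZMod p)) q)) (hK : Sect.IsPClosed p K)

include hq hK

/-- Dévissage for sheaves with finite stalk killed by a power of `p`. -/
theorem eq_zero_of_finite (a : ℕ) : ∀ (N : ℕ) (C : EtCoh.Ab (Spec (CommRingCat.of K))),
    Finite ((EtCoh.stalk (xi K)).obj C) → Nat.card ((EtCoh.stalk (xi K)).obj C) = N →
      EtCoh.KilledBy (p ^ a) C → ∀ x : EtCoh.H (Spec (CommRingCat.of K)) C q, x = 0 := by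
  intro N
  induction N using Nat.strong_induction_on with
  | _ N ih =>
    intro C hfin hN hC x
    by_cases hz : IsZero C
    · exact (Ext.comp_mk₀_id x).symm.trans (by rw [hz.eq_of_src (𝟙 C) 0, Ext.mk₀_zero, Ext.comp_zero])
    · obtain ⟨t, ht0, htp⟩ := Sect.exists_section_order_p hK a C hC hz
      obtain ⟨f, hmono, hf0⟩ := exists_mono_of_section C t ht0 htp
      let S := ShortComplex.mk f (cokernel.π f) (cokernel.condition f)
      have hS : S.ShortExact := { exact := ShortComplex.exact_of_g_is_cokernel _ (cokernelIsCokernel _) }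
      have hsurj := stalk_surjective (xi K) S.g
      haveI : Finite ((EtCoh.stalk (xi K)).obj S.X₃) := Finite.of_surjective _ hsurj
      have hlt : Nat.card ((EtCoh.stalk (xi K)).obj S.X₃) < N := by
        rw [← hN]
        refine lt_of_le_of_ne (Nat.card_le_card_of_surjective _ hsurj) fun he => hf0 ?_
        have hinj : Function.Injective ((EtCoh.stalk (xi K)).map S.g) :=
          (hsurj.bijective_of_nat_card_le he.ge).1
        refine AddCommGrpCat.ext fun m => hinj ?_
        rw [← ConcreteCategory.comp_apply, ← Functor.map_comp, show f ≫ S.g = 0 from S.zero, Functor.map_zero]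
        exact (map_zero ((EtCoh.stalk (xi K)).map S.g).hom).symm
      have hX₃ : EtCoh.KilledBy (p ^ a) S.X₃ := killedBy_of_nsmul (by
        rw [← cancel_epi S.g, comp_zero, Preadditive.comp_nsmul, Category.comp_id,
          ← Category.id_comp S.g, ← Preadditive.nsmul_comp, nsmul_of_killedBy hC, zero_comp])
      obtain ⟨y, hy⟩ := Ext.covariant_sequence_exact₂ _ hS x (ih _ hlt S.X₃ inferInstance rfl hX₃ _)
      rw [← hy, show y = 0 from hq.elim y 0]
      simp

/-- `p`-primary classes of degree `q` of torsion sheaves vanish. -/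
theorem eq_zero_of_torsion (F : EtCoh.Ab (Spec (CommRingCat.of K))) (hF : EtCoh.IsTorsion F)
    (x : EtCoh.H (Spec (CommRingCat.of K)) F q) (hx : ∃ m : ℕ, p ^ m • x = 0) : x = 0 := by
  let X := Spec (CommRingCat.of K)
  let Q : EtCoh.Ab X → Prop := fun _ => True
  have hQe : ∀ {A B : EtCoh.Ab X} (g : A ⟶ B) [Epi g], EtPBC.IsConstructible A → Q A → Q B :=
    fun _ _ _ _ => trivial
  haveI := H18Et.Cons.isFiltered_idxCat (F := F) (Q := Q) (fun _ _ => trivial) (fun _ _ _ _ _ _ => trivial) hQe
  obtain ⟨hc⟩ := H18Et.Cons.nonempty_isColimit_idxCocone (F := F) (Q := Q) (fun _ _ => trivial)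
    (fun _ _ _ _ _ _ => trivial) hQe (fun f hC => ⟨_, 𝟙 _, f, hC, trivial, Category.id_comp f⟩) hF
  let D := H18Et.Cons.idxDiagram F Q
  obtain ⟨hs, hi⟩ := H18Et.CohColim.hSurj_hInj q D
  let e : colimit D ≅ F := (colimit.isColimit D).coconePointUniqueUpToIso hc
  obtain ⟨j, y, hy⟩ := hs (Sheaf.H.map e.inv q x)
  obtain ⟨m, hm⟩ := hx
  have hy0 : Sheaf.H.map (colimit.ι D j) q (p ^ m • y) = 0 := by
    rw [map_nsmul, hy, ← map_nsmul, hm, map_zero]
  obtain ⟨l, f, hl⟩ := hi j _ hy0
  have hCl : EtPBC.IsConstructible (D.obj l) := H18Et.Cons.Idx.isConstructible l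
  let C : EtCoh.Ab X := D.obj l
  let z : EtCoh.H X C q := Sheaf.H.map (D.map f) q y
  have hz : p ^ m • z = 0 := by rw [← map_nsmul]; exact hl
  suffices z = 0 by
    have h1 : Sheaf.H.map e.inv q x = 0 := by
      rw [← hy, ← colimit.w D f, H18Et.CohColim.H_map_comp]
      change Sheaf.H.map (colimit.ι D l) q z = 0
      rw [this, map_zero]
    have h2 := congrArg (Sheaf.H.map e.hom q) h1
    rwa [← H18Et.CohColim.H_map_comp, e.inv_hom_id, map_zero, Sheaf.H.map_apply, Ext.comp_mk₀_id] at h2
  obtain ⟨N, hN0, hN⟩ := H18Et.Cons.exists_killedBy C hCl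
  haveI := hN0
  let a := N.factorization p
  let N' := N / p ^ a
  have hmul : p ^ a * N' = N := Nat.ordProj_mul_ordCompl_eq_self N p
  have hcop : Nat.Coprime p N' := Nat.coprime_ordCompl (Fact.out : p.Prime) (NeZero.ne N)
  let g : C ⟶ C := N' • 𝟙 C
  let S := Abelian.image g
  have hS : EtCoh.KilledBy (p ^ a) S := killedBy_of_nsmul (by
    rw [← cancel_epi (Abelian.factorThruImage g), ← cancel_mono (Abelian.image.ι g), comp_zero, zero_comp,
      Preadditive.comp_nsmul, Category.comp_id, Preadditive.nsmul_comp, Abelian.image.fac]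
    change p ^ a • N' • 𝟙 C = 0
    rw [smul_smul, hmul]
    exact nsmul_of_killedBy hN)
  haveI : Finite ((EtCoh.stalk (xi K)).obj C) := H18Et.Cons.finite_stalk_of_isConstructible C hCl (xi K)
  haveI : Finite ((EtCoh.stalk (xi K)).obj S) :=
    Finite.of_surjective _ (stalk_surjective (xi K) (Abelian.factorThruImage g))
  have hNz : N' • z = 0 := by
    have h1 : Sheaf.H.map g q z = 0 := by
      rw [show g = Abelian.factorThruImage g ≫ Abelian.image.ι g from (Abelian.image.fac g).symm,
        H18Et.CohColim.H_map_comp, eq_zero_of_finite q hq hK a _ S inferInstance rfl hS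
          (Sheaf.H.map (Abelian.factorThruImage g) q z), map_zero]
    rw [Sheaf.H.map_apply, show Ext.mk₀ g = N' • Ext.mk₀ (𝟙 C) from map_nsmul Ext.addEquiv₀.symm _ _,
      ← Ext.bilinearComp_apply_apply (h := add_zero q), map_nsmul, Ext.bilinearComp_apply_apply,
      Ext.comp_mk₀_id] at h1
    exact h1
  exact AddMonoid.addOrderOf_eq_one_iff.1 (Nat.eq_one_of_dvd_coprimes (hcop.pow_left m)
    (addOrderOf_dvd_of_nsmul_eq_zero hz) (addOrderOf_dvd_of_nsmul_eq_zero hNz))

omit hq in
/-- Vanishing of `H^q(ℤ/p)` propagates to higher degrees. -/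
theorem subsingleton_succ (h : Subsingleton (EtCoh.H (Spec (CommRingCat.of K))
    (EtCoh.const (Spec (CommRingCat.of K)) (ZMod p)) (q + 1))) :
    Subsingleton (EtCoh.H (Spec (CommRingCat.of K)) (EtCoh.const (Spec (CommRingCat.of K)) (ZMod p)) (q + 2)) := by
  let Z := EtCoh.const (Spec (CommRingCat.of K)) (ZMod p)
  have hp : p • 𝟙 Z = 0 := by
    change p • 𝟙 ((constantSheaf _ AddCommGrpCat.{u + 1}).obj _) = 0
    rw [← CategoryTheory.Functor.map_id, ← Functor.map_nsmul]
    refine Eq.trans (congrArg _ ?_) (Functor.map_zero _ _ _)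
    ext m
    skip
    change p • m.down = 0
    rw [nsmul_eq_mul, ZMod.natCast_self, zero_mul]
  obtain ⟨E, a, _, hE, hEac⟩ := H18Et.SkyEmbed.exists_mono_killed_acyclic Z (killedBy_of_nsmul hp)
  let S := ShortComplex.mk a (cokernel.π a) (cokernel.condition a)
  have hS : S.ShortExact := { exact := ShortComplex.exact_of_g_is_cokernel _ (cokernelIsCokernel _) }
  refine subsingleton_of_forall_eq 0 fun x => ?_
  obtain ⟨y, rfl⟩ := Ext.covariant_sequence_exact₁ _ hS x ((hEac (q + 1)).elim _ _) (show q + 1 + 1 = q + 2 by omega)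
  have hk : p • 𝟙 S.X₃ = 0 := by
    rw [← cancel_epi S.g, comp_zero, Preadditive.comp_nsmul, Category.comp_id,
      ← Category.id_comp S.g, ← Preadditive.nsmul_comp, nsmul_of_killedBy hE, zero_comp]
  have ht : EtCoh.IsTorsion S.X₃ := fun U s x => ⟨U, 𝟙 U, ⟨x, rfl⟩, by
    rw [op_id, CategoryTheory.Functor.map_id]
    exact isOfFinAddOrder_iff_nsmul_eq_zero.2 ⟨p, (Fact.out : p.Prime).pos, killedBy_of_nsmul hk U s⟩⟩
  rw [eq_zero_of_torsion (q + 1) h hK S.X₃ ht y ⟨1, by
    rw [pow_one]
    have h1 := congrArg (fun t : S.X₃ ⟶ S.X₃ => y.comp (Ext.mk₀ t) (add_zero (q + 1))) hk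
    simp only [Ext.mk₀_zero, Ext.comp_zero] at h1
    rw [show Ext.mk₀ (p • 𝟙 S.X₃) = p • Ext.mk₀ (𝟙 _) from map_nsmul Ext.addEquiv₀.symm _ _,
      ← Ext.bilinearComp_apply_apply (h := add_zero (q + 1)), map_nsmul, Ext.bilinearComp_apply_apply,
      Ext.comp_mk₀_id] at h1
    exact h1⟩]
  simp

end Groth.Agent.H9GalCoh.Dev
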