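import Mathlib

/-!
# The fixed field of a Sylow pro-`p` subgroup, by Zorn's lemma
-/

set_option autoImplicit false
set_option linter.style.haveILetI false

universe u

open IntermediateField Polynomial

namespace Groth.Agent.H9GalCoh.Sylow

variable (k : Type u) [Field k] (p : ℕ) [Fact p.Prime]

/-- All finite subextensions have degree prime to `p`. -/
def PrimeTo (K : IntermediateField k (SeparableClosure k)) : Prop :=
  ∀ F : IntermediateField k (SeparableClosure k), F ≤ K → FiniteDimensional k F → ¬ p ∣ Module.finrank k F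

variable {k p}

theorem primeTo_bot : PrimeTo k p ⊥ := fun F hF _ => by
  rw [le_bot_iff.1 hF, IntermediateField.finrank_bot]
  exact (Fact.out : p.Prime).not_dvd_one

theorem exists_fg (F : IntermediateField k (SeparableClosure k)) [FiniteDimensional k F] :
    ∃ t : Finset (SeparableClosure k), adjoin k (t : Set (SeparableClosure k)) = F := by
  classical
  obtain ⟨t, ht⟩ := (IntermediateField.fg_of_fg_toSubalgebra F (Subalgebra.fg_of_fg_toSubmodule
    (Module.Finite.iff_fg.1 (inferInstanceAs (FiniteDimensional k F)))))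
  exact ⟨t, ht⟩

/-- A finite subextension of a directed union lies in a member. -/
theorem exists_le_of_directed {ι : Type*} [Nonempty ι] {t : ι → IntermediateField k (SeparableClosure k)}
    (hdir : Directed (· ≤ ·) t) (F : IntermediateField k (SeparableClosure k)) [FiniteDimensional k F]
    (hF : F ≤ ⨆ i, t i) : ∃ i, F ≤ t i := by
  classical
  obtain ⟨s, rfl⟩ := exists_fg F
  have hs : ∀ x ∈ s, ∃ i, x ∈ t i := fun x hx => by
    have h : x ∈ ((⨆ i, t i : IntermediateField k (SeparableClosure k)) : Set (SeparableClosure k)) :=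
      hF (subset_adjoin k _ hx)
    rw [coe_iSup_of_directed hdir, Set.mem_iUnion] at h
    exact h
  choose i hi using hs
  obtain ⟨z, hz⟩ := hdir.finset_le (Finset.univ.image fun x : s => i x.1 x.2)
  exact ⟨z, adjoin_le_iff.2 fun x hx =>
    hz (i x hx) (Finset.mem_image.2 ⟨⟨x, hx⟩, Finset.mem_univ _, rfl⟩) (hi x hx)⟩

theorem exists_maximal : ∃ K, Maximal (PrimeTo k p) K := by
  refine (zorn_le₀ {K | PrimeTo k p K} fun c hc hchain => ?_).imp fun K hK => hK
  rcases c.eq_empty_or_nonempty with rfl | hne
  · exact ⟨⊥, primeTo_bot, fun z hz => hz.elim⟩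
  · haveI := hne.to_subtype
    refine ⟨⨆ i : c, i.1, fun F hF hfin => ?_, fun z hz => le_iSup (fun i : c => i.1) ⟨z, hz⟩⟩
    obtain ⟨i, hi⟩ := exists_le_of_directed (t := fun i : c => i.1) hchain.directed F hF
    exact hc i.2 F hi hfin

/-- A finite separable extension of degree prime to `p` of a maximal field is trivial. -/
theorem adjoin_le_of_maximal {K : IntermediateField k (SeparableClosure k)} (hK : Maximal (PrimeTo k p) K)
    (a : SeparableClosure k) (ha : ¬ p ∣ (minpoly K a).natDegree) : a ∈ K := by
  classical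
  suffices h : PrimeTo k p (K ⊔ k⟮a⟯) from
    (hK.2 h le_sup_left) (le_sup_right (a := K) (mem_adjoin_simple_self k a))
  intro F hF hfin
  haveI := hfin
  have hai : IsIntegral k a := Algebra.IsIntegral.isIntegral a
  let f := minpoly K a
  let C : Set (SeparableClosure k) := Set.range fun i : Fin (f.natDegree + 1) => ((f.coeff i : K) : SeparableClosure k)
  let ι := {L : IntermediateField k (SeparableClosure k) // L ≤ K ∧ FiniteDimensional k L}
  have hC : adjoin k C ≤ K := adjoin_le_iff.2 (Set.range_subset_iff.2 fun i => (f.coeff i).2)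
  haveI : FiniteDimensional k (adjoin k C) :=
    finiteDimensional_adjoin fun x _ => Algebra.IsIntegral.isIntegral x
  haveI : Nonempty ι := ⟨⟨⊥, bot_le, inferInstance⟩⟩
  have hdir : Directed (· ≤ ·) fun L : ι => L.1 ⊔ k⟮a⟯ := fun L L' =>
    haveI := L.2.2; haveI := L'.2.2
    ⟨⟨L.1 ⊔ L'.1, sup_le L.2.1 L'.2.1, inferInstance⟩, sup_le_sup_right le_sup_left _, sup_le_sup_right le_sup_right _⟩
  have hle : K ⊔ k⟮a⟯ ≤ ⨆ L : ι, L.1 ⊔ k⟮a⟯ := by
    refine sup_le (fun y hy => ?_) (le_iSup_of_le (Classical.arbitrary ι) le_sup_right)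
    exact le_iSup (fun L : ι => L.1 ⊔ k⟮a⟯)
      ⟨k⟮y⟯, adjoin_simple_le_iff.2 hy, adjoin.finiteDimensional (Algebra.IsIntegral.isIntegral y)⟩
      (le_sup_left (b := k⟮a⟯) (mem_adjoin_simple_self k y))
  obtain ⟨L₀, hL₀⟩ := exists_le_of_directed hdir F (hF.trans hle)
  haveI := L₀.2.2
  let L : IntermediateField k (SeparableClosure k) := L₀.1 ⊔ adjoin k C
  have hLK : L ≤ K := sup_le L₀.2.1 hC
  haveI : FiniteDimensional k L := inferInstance
  have haL : IsIntegral L a := hai.tower_top
  -- the degree of `a` over `L` is that over `K`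
  have hdeg : (minpoly L a).natDegree = f.natDegree := by
    refine le_antisymm ?_ ?_
    · have hl : f.map (algebraMap K (SeparableClosure k)) ∈ lifts (algebraMap L (SeparableClosure k)) := by
        rw [lifts_iff_coeff_lifts]
        intro i
        rw [coeff_map]
        by_cases hi : i < f.natDegree + 1
        · exact ⟨⟨_, (le_sup_right : adjoin k C ≤ L) (subset_adjoin k C ⟨⟨i, hi⟩, rfl⟩)⟩, rfl⟩
        · rw [coeff_eq_zero_of_natDegree_lt (by omega), map_zero]
          exact ⟨0, map_zero _⟩
      have hfm : (f.map (algebraMap K (SeparableClosure k))).Monic :=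
        (minpoly.monic (IsIntegral.tower_top hai)).map _
      obtain ⟨g, hg, hgd, hgm⟩ := lifts_and_natDegree_eq_and_monic hl hfm
      refine le_trans (natDegree_le_of_dvd (minpoly.dvd L a (p := g) ?_) hgm.ne_zero) ?_
      · rw [aeval_def, ← eval_map, hg, eval_map, ← aeval_def, minpoly.aeval]
      · rw [hgd, natDegree_map]
    · let h : L →+* K := (inclusion hLK).toRingHom
      have hm : ((minpoly L a).map h).Monic := (minpoly.monic haL).map h
      refine (natDegree_le_natDegree (minpoly.min K a hm ?_)).trans natDegree_map_le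
      rw [aeval_def, eval₂_map]
      exact minpoly.aeval L a
  have hfin' : FiniteDimensional k (L⟮a⟯.restrictScalars k) := by
    rw [restrictScalars_adjoin_eq_sup]
    haveI := adjoin.finiteDimensional hai
    infer_instance
  have hFle : F ≤ L⟮a⟯.restrictScalars k := by
    rw [restrictScalars_adjoin_eq_sup]
    exact hL₀.trans (sup_le_sup_right le_sup_left _)
  intro hp
  have h1 : Module.finrank k F ∣ Module.finrank k (L⟮a⟯.restrictScalars k) :=
    IntermediateField.finrank_dvd_of_le_right hFle
  have h2 : Module.finrank k (L⟮a⟯.restrictScalars k) = Module.finrank k L * f.natDegree := by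
    rw [← hdeg, ← adjoin.finrank haL]
    exact (Module.finrank_mul_finrank k L L⟮a⟯).symm
  rcases (Fact.out : p.Prime).dvd_mul.1 (h2 ▸ hp.trans h1) with h | h
  · exact hK.1 L hLK inferInstance h
  · exact ha h

/-- Every finite separable extension of a maximal field has `p`-power degree. -/
theorem finrank_eq_pow {K : IntermediateField k (SeparableClosure k)} (hK : Maximal (PrimeTo k p) K)
    (L : Type u) [Field L] [Algebra K L] [FiniteDimensional K L] [Algebra.IsSeparable K L] :
    ∃ m : ℕ, Module.finrank K L = p ^ m := by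
  classical
  let Ω := SeparableClosure k
  haveI : IsGalois K Ω := inferInstance
  let φ : L →ₐ[K] Ω := IsSepClosed.lift
  letI : Algebra L Ω := φ.toRingHom.toAlgebra
  haveI : IsScalarTower K L Ω := IsScalarTower.of_algebraMap_eq fun x => (φ.commutes x).symm
  let N := IntermediateField.normalClosure K L Ω
  haveI : IsGalois K N := IsGalois.normalClosure K L Ω
  let P : Sylow p (N ≃ₐ[K] N) := default
  let M := IntermediateField.fixedField (P : Subgroup (N ≃ₐ[K] N))
  obtain ⟨a, ha⟩ := Field.exists_primitive_element K M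
  have hindex : ¬ p ∣ Module.finrank K M := by
    have h1 := Module.finrank_mul_finrank K M N
    rw [IntermediateField.finrank_fixedField_eq_card, ← IsGalois.card_aut_eq_finrank K N,
      ← (P : Subgroup (N ≃ₐ[K] N)).index_mul_card] at h1
    rw [Nat.eq_of_mul_eq_mul_right Nat.card_pos h1]
    exact P.not_dvd_index
  have hb : ((a : N) : Ω) ∈ K := by
    refine adjoin_le_of_maximal hK _ ?_
    rw [show minpoly K (((a : N) : Ω)) = minpoly K a from
      minpoly.algHom_eq ((IntermediateField.val N).comp (IntermediateField.val M)) (fun x y h => Subtype.ext (Subtype.ext h)) a]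
    rwa [← adjoin.finrank (Algebra.IsIntegral.isIntegral a), ha, IntermediateField.finrank_top']
  have hM : Module.finrank K M = 1 := by
    rw [← IntermediateField.finrank_top', ← ha, adjoin_simple_eq_bot_iff.2, IntermediateField.finrank_bot]
    exact ⟨⟨_, hb⟩, Subtype.ext (Subtype.ext rfl)⟩
  obtain ⟨n, hn⟩ := IsPGroup.iff_card.1 P.isPGroup'
  have hN : Module.finrank K N = p ^ n := by
    rw [← Module.finrank_mul_finrank K M N, hM, one_mul, IntermediateField.finrank_fixedField_eq_card, hn]
  letI : Algebra L N := (φ.codRestrict N.toSubalgebra fun x =>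
    φ.fieldRange_le_normalClosure ⟨x, rfl⟩).toRingHom.toAlgebra
  haveI : IsScalarTower K L N := IsScalarTower.of_algebraMap_eq fun x => Subtype.ext (φ.commutes x).symm
  have hdvd : Module.finrank K L ∣ p ^ n := hN ▸ ⟨_, (Module.finrank_mul_finrank K L N).symm⟩
  obtain ⟨m, -, hm⟩ := (Nat.dvd_prime_pow (Fact.out : p.Prime)).1 hdvd
  exact ⟨m, hm⟩

end Groth.Agent.H9GalCoh.Sylow
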