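import Groth.Agent.H18Et.RestrictionClass
import Groth.Agent.H18Ext.MapNatTrans

/-!
# Pullback on cohomology along a composite
-/

set_option autoImplicit false
set_option backward.isDefEq.respectTransparency false
set_option backward.isDefEq.respectTransparency.types false

universe u

open CategoryTheory CategoryTheory.Limits AlgebraicGeometry Opposite Abelian

namespace Groth.Agent.H9GalCoh.Tower

variable {X V W : Scheme.{u}} (t : V ⟶ X) [Etale t] (f : W ⟶ V) (f₀ : W ⟶ X) [Etale f₀] (w : f ≫ t = f₀)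
  [PreservesFiniteLimits (EtCoh.pull f)] [PreservesFiniteLimits (EtCoh.pull t)] [PreservesFiniteLimits (EtCoh.pull f₀)]

/-- The relative pullback after a pullback is the pullback, in all degrees. -/
theorem HpullVia_Hpull (G : EtCoh.Ab X) (n : ℕ) (x : EtCoh.H X G n) :
    EtCore.HpullVia f t f₀ w G n (EtCore.Hpull t G n x) = EtCore.Hpull f₀ G n x := by
  let e := (EtCore.pullComp f t).symm ≪≫ EtCore.pullCongr w
  let Z := EtCoh.const X ℤ
  let k := (EtCore.pullConst f ℤ).inv ≫ (EtCoh.pull f).map (EtCore.pullConst t ℤ).inv ≫ e.hom.app Z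
  have hk : k = (EtCore.pullConst f₀ ℤ).inv := by
    refine (Ext.mk₀_bijective _ _).injective ?_
    have h := H18Et.FreeSheaf.HpullVia_Hpull t f f₀ w Z (Ext.mk₀ (𝟙 Z))
    rw [show EtCore.Hpull f₀ Z 0 (Ext.mk₀ (𝟙 Z)) = Ext.mk₀ (EtCore.pullConst f₀ ℤ).inv by
      show (Ext.mk₀ _).comp ((Ext.mk₀ (𝟙 Z)).mapExactFunctor (EtCoh.pull f₀)) (zero_add 0) = _
      rw [Ext.mapExactFunctor_mk₀, Ext.mk₀_comp_mk₀, CategoryTheory.Functor.map_id, Category.comp_id]] at h
    rw [← h]
    show _ = ((Ext.mk₀ _).comp (((Ext.mk₀ _).comp ((Ext.mk₀ (𝟙 Z)).mapExactFunctor (EtCoh.pull t))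
      (zero_add 0)).mapExactFunctor (EtCoh.pull f)) (zero_add 0)).comp (Ext.mk₀ (e.hom.app Z)) (add_zero 0)
    simp only [Ext.mapExactFunctor_mk₀, Ext.mk₀_comp_mk₀, CategoryTheory.Functor.map_id, Category.comp_id,
      Category.assoc, k]
  haveI : EnoughInjectives (EtCoh.Ab X) := inferInstance
  have hnt := H18Ext.mapExactFunctor_natTrans (EtCoh.pull t) (EtCoh.pull f) (EtCoh.pull f₀) e.hom _ n G x
  show ((Ext.mk₀ _).comp (((Ext.mk₀ _).comp (x.mapExactFunctor (EtCoh.pull t)) (zero_add n)).mapExactFunctor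
      (EtCoh.pull f)) (zero_add n)).comp (Ext.mk₀ (e.hom.app G)) (add_zero n) =
    (Ext.mk₀ _).comp (x.mapExactFunctor (EtCoh.pull f₀)) (zero_add n)
  rw [Ext.mapExactFunctor_comp, Ext.mapExactFunctor_mk₀, Ext.mk₀_comp_mk₀_assoc,
    Ext.comp_assoc_of_third_deg_zero]
  erw [hnt]
  rw [Ext.mk₀_comp_mk₀_assoc, Category.assoc]
  exact congrArg (fun a => (Ext.mk₀ a).comp _ (zero_add n)) hk

include w in
/-- A class killed by the composite is killed by the second pullback after the first. -/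
theorem Hpull_Hpull_eq_zero (G : EtCoh.Ab X) (n : ℕ) (x : EtCoh.H X G n) (hx : EtCore.Hpull f₀ G n x = 0) :
    EtCore.Hpull f ((EtCoh.pull t).obj G) n (EtCore.Hpull t G n x) = 0 := by
  rw [← HpullVia_Hpull t f f₀ w G n x] at hx
  let a := ((EtCore.pullComp f t).symm ≪≫ EtCore.pullCongr w).app G
  have h : ((EtCoh.HF W n).map a.hom).hom (EtCore.Hpull f ((EtCoh.pull t).obj G) n (EtCore.Hpull t G n x)) = 0 := hx
  exact (((EtCoh.HF W n).mapIso a).addCommGroupIsoToAddEquiv).map_eq_zero_iff.1 h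

end Groth.Agent.H9GalCoh.Tower
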