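import Groth.Agent.H9GalCoh.Transfer
import Groth.Agent.H18Et.Subterminal
import Mathlib.CategoryTheory.Sites.EpiMono

/-!
# Classes of positive degree over a field die in a finite separable extension
-/

set_option autoImplicit false
set_option linter.style.haveILetI false
set_option backward.isDefEq.respectTransparency false
set_option backward.isDefEq.respectTransparency.types false

universe u

open CategoryTheory CategoryTheory.Limits AlgebraicGeometry Opposite Abelian TensorProduct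

namespace Groth.Agent.H9GalCoh.Killing

variable {X : Scheme.{u}}

/-- Restriction of the unit of the constant sheaf to an object, as a map out of the free sheaf. -/
noncomputable def augAt {W : X.Etale} (ρ : W ⟶ EtCoh.top X) :
    (H18Et.FreeSheaf.free X).obj W ⟶ EtCoh.const X ℤ :=
  (H18Et.FreeSheaf.homEquiv W _).symm
    ((EtCoh.const X ℤ).obj.map ρ.op (Sheaf.H.equiv₀ _ (EtCore.topIsTerminal X) (Ext.mk₀ (𝟙 _))))

theorem homEquiv_augAt_comp {W : X.Etale} (ρ : W ⟶ EtCoh.top X) {F : EtCoh.Ab X} (φ : EtCoh.const X ℤ ⟶ F) :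
    H18Et.FreeSheaf.homEquiv W F (augAt ρ ≫ φ) =
      F.obj.map ρ.op (Sheaf.H.equiv₀ F (EtCore.topIsTerminal X) (Ext.mk₀ φ)) := by
  rw [H18Et.FreeSheaf.homEquiv_comp, augAt, Equiv.apply_symm_apply]
  have h1 := Sheaf.H.equiv₀_naturality (EtCore.topIsTerminal X) φ (Ext.mk₀ (𝟙 (EtCoh.const X ℤ)))
  rw [show Sheaf.H.map φ 0 (Ext.mk₀ (𝟙 (EtCoh.const X ℤ))) = Ext.mk₀ φ by
    rw [Sheaf.H.map_apply, Ext.mk₀_comp_mk₀, Category.id_comp]] at h1
  rw [← h1]
  exact (NatTrans.naturality_apply φ.hom ρ.op _)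

theorem map_comp_augAt {W W' : X.Etale} (g : W' ⟶ W) (ρ : W ⟶ EtCoh.top X) :
    (H18Et.FreeSheaf.free X).map g ≫ augAt ρ = augAt (g ≫ ρ) := by
  refine (H18Et.FreeSheaf.homEquiv W' _).injective ?_
  rw [H18Et.FreeSheaf.homEquiv_map, augAt, augAt, Equiv.apply_symm_apply, Equiv.apply_symm_apply,
    ← ConcreteCategory.comp_apply, ← Functor.map_comp, ← op_comp]

/-- Every class of positive degree vanishes on a covering of the base. -/
theorem exists_cover_killing (n : ℕ) : ∀ (F : EtCoh.Ab X) (α : EtCoh.H X F (n + 1)),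
    ∃ R ∈ X.smallEtaleTopology (EtCoh.top X), ∀ {W : X.Etale} (ρ : W ⟶ EtCoh.top X), R.arrows ρ →
      (Ext.mk₀ (augAt ρ)).comp α (zero_add (n + 1)) = 0 := by
  induction n with
  | zero =>
    intro F α
    let S := ShortComplex.mk (Injective.ι F) (cokernel.π (Injective.ι F)) (cokernel.condition _)
    have hS : S.ShortExact := { exact := ShortComplex.exact_cokernel _ }
    haveI : Injective S.X₂ := Injective.injective_under F
    obtain ⟨β, rfl⟩ := Ext.covariant_sequence_exact₁ _ hS α (Ext.eq_zero_of_injective _) rfl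
    obtain ⟨φ, rfl⟩ := (Ext.mk₀_bijective _ _).surjective β
    haveI : Sheaf.IsLocallySurjective S.g :=
      (Sheaf.isLocallySurjective_iff_epi' _ S.g).2 hS.epi_g
    refine ⟨_, Presheaf.imageSieve_mem X.smallEtaleTopology S.g.hom
      (Sheaf.H.equiv₀ S.X₃ (EtCore.topIsTerminal X) (Ext.mk₀ φ)), fun {W} ρ hρ => ?_⟩
    obtain ⟨t, ht⟩ := hρ
    have h : augAt ρ ≫ φ = (H18Et.FreeSheaf.homEquiv W S.X₂).symm t ≫ S.g := by
      refine (H18Et.FreeSheaf.homEquiv W S.X₃).injective ?_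
      rw [homEquiv_augAt_comp, H18Et.FreeSheaf.homEquiv_comp, Equiv.apply_symm_apply]
      exact ht.symm
    rw [← Ext.comp_assoc (a₁₂ := 0) (a₂₃ := 1) _ _ _ (zero_add 0) (zero_add 1) (by omega),
      Ext.mk₀_comp_mk₀, h, ← Ext.mk₀_comp_mk₀,
      Ext.comp_assoc (a₁₂ := 0) (a₂₃ := 1) _ _ _ (zero_add 0) (zero_add 1) (by omega),
      hS.comp_extClass, Ext.comp_zero]
  | succ n ih =>
    intro F α
    let S := ShortComplex.mk (Injective.ι F) (cokernel.π (Injective.ι F)) (cokernel.condition _)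
    have hS : S.ShortExact := { exact := ShortComplex.exact_cokernel _ }
    haveI : Injective S.X₂ := Injective.injective_under F
    obtain ⟨β, rfl⟩ := Ext.covariant_sequence_exact₁ _ hS α (Ext.eq_zero_of_injective _) rfl
    obtain ⟨R, hR, h⟩ := ih S.X₃ β
    refine ⟨R, hR, fun {W} ρ hρ => ?_⟩
    rw [← Ext.comp_assoc (a₁₂ := n + 1) (a₂₃ := n + 1 + 1) _ _ _ (zero_add _) rfl (by omega), h ρ hρ,
      Ext.zero_comp]

variable {K : Type u} [Field K]

/-- A nonempty object of the site receives the spectrum of a finite separable extension. -/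
theorem exists_field_point (W : (Spec (CommRingCat.of K)).Etale) (w : W.left) :
    ∃ (L : Type u) (_ : Field L) (_ : Algebra K L) (_ : FiniteDimensional K L) (_ : Algebra.IsSeparable K L)
      (_ : AlgebraicGeometry.Etale (Transfer.str K L)),
      Nonempty (H18Et.FreeSheaf.obj (Transfer.str K L) ⟶ W) := by
  obtain ⟨_, ⟨O, hO, rfl⟩, hwO, -⟩ :=
    W.left.isBasis_affineOpens.exists_subset_of_mem_open (Set.mem_univ w) isOpen_univ
  haveI : AlgebraicGeometry.Etale W.hom := W.prop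
  haveI : IsAffine (O : Scheme.{u}) := hO
  obtain ⟨ψ, hψ⟩ : ∃ ψ, Spec.map ψ = hO.fromSpec ≫ W.hom := ⟨_, Spec.map_preimage _⟩
  haveI hψe : AlgebraicGeometry.Etale (Spec.map ψ) := by rw [hψ]; infer_instance
  let B := Γ(W.left, O)
  letI : Algebra K B := ψ.hom.toAlgebra
  haveI : Algebra.Etale K B :=
    RingHom.etale_algebraMap.mp ((HasRingHomProperty.Spec_iff (P := @AlgebraicGeometry.Etale)).1 hψe)
  haveI : Nontrivial B := by
    have hne : Nonempty (PrimeSpectrum B) := ⟨hO.primeIdealOf ⟨w, hwO⟩⟩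
    exact PrimeSpectrum.nonempty_iff_nontrivial.1 hne
  obtain ⟨m, hm⟩ := Ideal.exists_maximal B
  letI := Ideal.Quotient.field m
  haveI : Algebra.IsSeparable K (B ⧸ m) := inferInstance
  haveI : Module.Finite K B := Algebra.FormallyUnramified.finite_of_free K B
  haveI : FiniteDimensional K (B ⧸ m) := Module.Finite.of_surjective (Ideal.Quotient.mkₐ K m).toLinearMap
    Ideal.Quotient.mk_surjective
  haveI he := Transfer.etale_str K (B ⧸ m)
  refine ⟨B ⧸ m, inferInstance, inferInstance, inferInstance, inferInstance, he,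
    ⟨MorphismProperty.Over.homMk (Spec.map (CommRingCat.ofHom (Ideal.Quotient.mk m)) ≫ hO.fromSpec) ?_⟩⟩
  show (Spec.map _ ≫ hO.fromSpec) ≫ W.hom = 𝟙 _ ≫ Transfer.str K (B ⧸ m)
  rw [Category.id_comp, Category.assoc, ← hψ, ← Spec.map_comp]
  rfl

/-- Every class of positive degree dies in some finite separable extension. -/
theorem exists_finite_killing (F : EtCoh.Ab (Spec (CommRingCat.of K))) (i : ℕ) (hi : 0 < i)
    (α : EtCoh.H (Spec (CommRingCat.of K)) F i) :
    ∃ (L : Type u) (_ : Field L) (_ : Algebra K L) (_ : FiniteDimensional K L) (_ : Algebra.IsSeparable K L)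
      (_ : PreservesFiniteLimits (EtCoh.pull (Transfer.str K L))),
      EtCore.Hpull (Transfer.str K L) F i α = 0 := by
  obtain ⟨n, rfl⟩ : ∃ n, i = n + 1 := ⟨i - 1, by omega⟩
  obtain ⟨R, hR, hkill⟩ := exists_cover_killing n F α
  let p₀ : ↥(Spec (CommRingCat.of K)) := (default : PrimeSpectrum K)
  obtain ⟨W, ρ, w, hρ, -⟩ := H18Et.Subterminal.exists_mem_of_cover hR p₀
  obtain ⟨L, _, _, _, _, _, ⟨h⟩⟩ := exists_field_point W w
  haveI := H18Et.pull_preservesFiniteLimits (Transfer.str K L)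
  refine ⟨L, inferInstance, inferInstance, inferInstance, inferInstance, inferInstance, ?_⟩
  rw [H18Et.FreeSheaf.Hpull_eq_phi (Transfer.str K L) (h ≫ ρ)]
  rw [show H18Et.FreeSheaf.aug (Transfer.str K L) (h ≫ ρ) = augAt (h ≫ ρ) from rfl,
    hkill _ (R.downward_closed hρ h)]
  exact map_zero _

/-- Higher cohomology of fields is torsion. -/
theorem isOfFinAddOrder (F : EtCoh.Ab (Spec (CommRingCat.of K))) (i : ℕ) (hi : 0 < i)
    (α : EtCoh.H (Spec (CommRingCat.of K)) F i) : IsOfFinAddOrder α := by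
  obtain ⟨L, _, _, _, _, _, hL⟩ := exists_finite_killing F i hi α
  exact isOfFinAddOrder_iff_nsmul_eq_zero.2
    ⟨_, Module.finrank_pos, Transfer.finrank_nsmul_eq_zero K L F i α hL⟩

/-- Higher cohomology of uniquely divisible sheaves vanishes. -/
theorem subsingleton_of_uniquelyDivisible (F : EtCoh.Ab (Spec (CommRingCat.of K)))
    (hdiv : ∀ n : ℕ, 0 < n → IsIso (n • 𝟙 F)) (i : ℕ) (hi : 0 < i) :
    Subsingleton (EtCoh.H (Spec (CommRingCat.of K)) F i) := by
  refine subsingleton_of_forall_eq 0 fun α => ?_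
  obtain ⟨n, hn, hα⟩ := isOfFinAddOrder_iff_nsmul_eq_zero.1 (isOfFinAddOrder F i hi α)
  haveI := hdiv n hn
  have h1 : α.comp (Ext.mk₀ (n • 𝟙 F)) (add_zero i) = 0 := by
    rw [show Ext.mk₀ (n • 𝟙 F) = n • Ext.mk₀ (𝟙 F) from map_nsmul Ext.addEquiv₀.symm _ _,
      ← Ext.bilinearComp_apply_apply (h := add_zero i), map_nsmul, Ext.bilinearComp_apply_apply, Ext.comp_mk₀_id, hα]
  calc α = α.comp (Ext.mk₀ ((n • 𝟙 F) ≫ inv (n • 𝟙 F))) (add_zero i) := by rw [IsIso.hom_inv_id, Ext.comp_mk₀_id]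
    _ = (α.comp (Ext.mk₀ (n • 𝟙 F)) (add_zero i)).comp (Ext.mk₀ (inv (n • 𝟙 F))) (add_zero i) := by
        rw [← Ext.mk₀_comp_mk₀, Ext.comp_assoc (a₁₂ := i) (a₂₃ := 0) _ _ _ (add_zero i) (add_zero 0) (by omega)]
    _ = 0 := by rw [h1, Ext.zero_comp]

end Groth.Agent.H9GalCoh.Killing
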