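import Groth.Agent.H9GalCoh.CyclicFree
import Groth.Agent.S13680
import Mathlib

/-!
# The relative Brauer group of a cyclic extension and norms
-/

set_option autoImplicit false
set_option linter.style.haveILetI false
set_option backward.isDefEq.respectTransparency false
set_option backward.isDefEq.respectTransparency.types false

universe u

open CategoryTheory CategoryTheory.Limits AlgebraicGeometry Opposite Abelian

namespace Groth.Agent.H9GalCoh.Cyclic

open scoped Groth.Agent.H18Et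

/-- The restriction of `G_m` along an etale morphism is `G_m`. -/
noncomputable def resGmIso {V X : Scheme.{u}} (j : V ⟶ X) [AlgebraicGeometry.Etale j] :
    (H18Et.EtaleRestrict.res j).obj (EtCoh.Gm X) ≅ EtCoh.Gm V :=
  (fullyFaithfulSheafToPresheaf _ _).preimageIso (NatIso.ofComponents (fun _ => Iso.refl _) fun _ => rfl)

/-- The pullback of `G_m` along an etale morphism is `G_m`. -/
noncomputable def pullGmIso {V X : Scheme.{u}} (j : V ⟶ X) [AlgebraicGeometry.Etale j] :
    (EtCoh.pull j).obj (EtCoh.Gm X) ≅ EtCoh.Gm V :=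
  (H18Et.EtaleRestrict.pullIso j).app _ ≪≫ resGmIso j

variable (K : Type u) [Field K] (L : Type u) [Field L] [Algebra K L] [AlgebraicGeometry.Etale (Transfer.str K L)]

instance subsingleton_Ext1 : Subsingleton (Ext (P K L) (EtCoh.Gm (Spec (CommRingCat.of K))) 1) := by
  haveI := H18Et.pull_preservesFiniteLimits (Transfer.str K L)
  haveI := S13680.subsingleton_H1_Gm (K := L)
  exact Function.Injective.subsingleton (β := EtCoh.H (Spec (CommRingCat.of L)) (EtCoh.Gm _) 1)
    (f := fun x => ((Sheaf.functorH _ 1).mapIso (pullGmIso (Transfer.str K L))).addCommGroupIsoToAddEquiv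
      (H18Et.FreeSheaf.phi (Transfer.str K L) (EtCoh.Gm _) 1 x))
    (((Sheaf.functorH _ 1).mapIso (pullGmIso (Transfer.str K L))).addCommGroupIsoToAddEquiv.injective.comp
      (H18Et.FreeSheaf.phi_bijective (Transfer.str K L) (EtCoh.Gm _) 1).1)

variable [FiniteDimensional K L] [IsGalois K L]

/-- The image of the difference operator. -/
noncomputable abbrev Q : EtCoh.Ab (Spec (CommRingCat.of K)) := cokernel (norm K L)

theorem shortExact_norm : (ShortComplex.mk (norm K L) (cokernel.π (norm K L)) (cokernel.condition _)).ShortExact :=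
  haveI := mono_norm K L
  { exact := ShortComplex.exact_cokernel _
    mono_f := inferInstance
    epi_g := inferInstance }

theorem desc_D_aug (σ : L ≃ₐ[K] L) : cokernel.desc (norm K L) (D K L σ) (norm_D K L σ) ≫ aug K L = 0 := by
  rw [← cancel_epi (cokernel.π (norm K L)), cokernel.π_desc_assoc, comp_zero, D_aug]

variable {K L} {σ : L ≃ₐ[K] L} (hσ : ∀ τ : L ≃ₐ[K] L, ∃ i : ℕ, σ ^ i = τ)

include hσ in
theorem shortExact_aug : (ShortComplex.mk (cokernel.desc (norm K L) (D K L σ) (norm_D K L σ)) (aug K L)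
    (desc_D_aug K L σ)).ShortExact where
  exact := by
    let S := ShortComplex.mk (D K L σ) (aug K L) (D_aug K L σ)
    let φ : S ⟶ ShortComplex.mk (cokernel.desc (norm K L) (D K L σ) (norm_D K L σ)) (aug K L) (desc_D_aug K L σ) :=
      { τ₁ := cokernel.π (norm K L), τ₂ := 𝟙 _, τ₃ := 𝟙 _ }
    haveI : Epi φ.τ₁ := inferInstanceAs (Epi (cokernel.π (norm K L)))
    haveI : IsIso φ.τ₂ := inferInstanceAs (IsIso (𝟙 _))
    haveI : Mono φ.τ₃ := inferInstanceAs (Mono (𝟙 _))
    exact (ShortComplex.exact_iff_of_epi_of_isIso_of_mono φ).1 (exact_D_aug K L hσ)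
  mono_f := (exact_norm_D K L hσ).mono_cokernelDesc
  epi_g := epi_aug K L

variable (K L)

/-- `Spec L` as an object over `Spec K`. -/
theorem exists_sp_iso : ∃ (a : V K L ⟶ Transfer.sp K L) (b : Transfer.sp K L ⟶ V K L), b ≫ a = 𝟙 _ ∧
    ∀ τ : L ≃ₐ[K] L, b ≫ gmV K L τ = H1Galois.gm L τ ≫ b := by
  obtain ⟨a, b, hba, hb, -⟩ := existsUnique_sp K L
  refine ⟨a, b, hba, fun τ => MorphismProperty.Over.Hom.ext ?_⟩
  show b.left ≫ Spec.map _ = Spec.map _ ≫ b.left
  rw [hb]
  exact (Category.id_comp _).trans (Category.comp_id _).symm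

/-- The restriction to `L` of the global section of a map factoring through the norm is a norm. -/
theorem exists_factor_iff (φ : Z K ⟶ EtCoh.Gm (Spec (CommRingCat.of K))) :
    (∃ ψ, norm K L ≫ ψ = φ) ↔ ∃ y : Lˣ, φ.hom.app (op (Transfer.sp K L)) (oneZ K _) =
      S13680.toS (K := K) L (∏ τ : L ≃ₐ[K] L, Units.map (τ : L →* L) y) := by
  classical
  let F := EtCoh.Gm (Spec (CommRingCat.of K))
  obtain ⟨a, b, hab, hb⟩ := exists_sp_iso K L
  have key : ∀ (ψ : P K L ⟶ F) (y : Lˣ),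
      F.obj.map b.op (H18Et.FreeSheaf.homEquiv (V K L) F ψ) = S13680.toS (K := K) L y →
      (norm K L ≫ ψ).hom.app (op (Transfer.sp K L)) (oneZ K _) =
        S13680.toS (K := K) L (∏ τ : L ≃ₐ[K] L, Units.map (τ : L →* L) y) := fun ψ y hy => by
    let T : Additive Lˣ →+ F.obj.obj (op (Transfer.sp K L)) :=
      AddMonoidHom.mk' (fun x => S13680.toS (K := K) L x.toMul) fun x z => S13680.toS_mul L _ _
    show ψ.hom.app _ ((norm K L).hom.app _ (oneZ K _)) =
      T (Additive.ofMul (∏ τ : L ≃ₐ[K] L, Units.map (τ : L →* L) y))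
    rw [app_norm K L b, map_sum, ofMul_prod, map_sum]
    refine Finset.sum_congr rfl fun τ _ => ?_
    rw [app_gen, hb, op_comp, Functor.map_comp]
    exact (congrArg (F.obj.map (H1Galois.gm L τ).op) hy).trans (S13680.map_toS L τ y)
  constructor
  · rintro ⟨ψ, rfl⟩
    obtain ⟨y, hy⟩ := S13680.toS_surjective (K := K) L (F.obj.map b.op (H18Et.FreeSheaf.homEquiv (V K L) F ψ))
    exact ⟨y, key ψ y hy.symm⟩
  · rintro ⟨y, hy⟩
    refine ⟨(H18Et.FreeSheaf.homEquiv (V K L) F).symm (F.obj.map a.op (S13680.toS (K := K) L y)), hom_ext K L ?_⟩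
    refine (key _ y ?_).trans hy.symm
    rw [Equiv.apply_symm_apply, ← ConcreteCategory.comp_apply, ← Functor.map_comp, ← op_comp, hab, op_id,
      CategoryTheory.Functor.map_id]
    rfl

/-- A unit of `K` gives a section over `L` of a global map. -/
theorem exists_hom_of_unit (c : Kˣ) : ∃ φ : Z K ⟶ EtCoh.Gm (Spec (CommRingCat.of K)),
    φ.hom.app (op (Transfer.sp K L)) (oneZ K _) = S13680.toS (K := K) L (Units.map (algebraMap K L : K →* L) c) := by
  obtain ⟨t, ht⟩ := Transfer.exists_descent K L (EtCoh.Gm (Spec (CommRingCat.of K)))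
    (S13680.toS (K := K) L (Units.map (algebraMap K L : K →* L) c)) fun σ g hg => by
      rw [show g = H1Galois.gm L σ from MorphismProperty.Over.Hom.ext hg, S13680.map_toS]
      exact congrArg (S13680.toS (K := K) L) (Units.ext (σ.commutes c.1))
  obtain ⟨φ, hφ⟩ := glob_surjective t
  exact ⟨φ, by rw [app_oneZ, hφ]; exact ht⟩

/-- The section over `L` of a global map is a unit of `K`. -/
theorem exists_unit_of_hom (φ : Z K ⟶ EtCoh.Gm (Spec (CommRingCat.of K))) : ∃ c : Kˣ,
    φ.hom.app (op (Transfer.sp K L)) (oneZ K _) = S13680.toS (K := K) L (Units.map (algebraMap K L : K →* L) c) := by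
  obtain ⟨z, hz⟩ := S13680.toS_surjective (K := K) L (φ.hom.app (op (Transfer.sp K L)) (oneZ K _))
  have hfix : ∀ σ : L ≃ₐ[K] L, σ (z : L) = z := fun σ => by
    refine congrArg Units.val (S13680.toS_injective (K := K) L (a₁ := Units.map (σ : L →* L) z) (a₂ := z) ?_)
    rw [← S13680.map_toS, hz, app_oneZ, ← ConcreteCategory.comp_apply, ← Functor.map_comp, ← op_comp,
      (EtCore.topIsTerminal _).comp_from]
  obtain ⟨c, hc⟩ := (IsGalois.mem_range_algebraMap_iff_fixed _).2 hfix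
  refine ⟨Units.mk0 c fun h => z.ne_zero ?_, ?_⟩
  · rw [← hc, h, map_zero]
  · rw [← hz]; exact congrArg (S13680.toS (K := K) L) (Units.ext hc.symm)

omit [AlgebraicGeometry.Etale (Transfer.str K L)] in
theorem prod_eq_map_iff (y : Lˣ) (c : Kˣ) :
    ∏ τ : L ≃ₐ[K] L, Units.map (τ : L →* L) y = Units.map (algebraMap K L : K →* L) c ↔
      Algebra.norm K (y : L) = c := by
  have e : algebraMap K L (Algebra.norm K (y : L)) = ∏ τ : L ≃ₐ[K] L, τ (y : L) :=
    Algebra.norm_eq_prod_automorphisms K (y : L)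
  rw [Units.ext_iff, Units.coe_prod]
  show ∏ τ : L ≃ₐ[K] L, τ (y : L) = algebraMap K L c ↔ _
  rw [← e]
  exact (algebraMap K L).injective.eq_iff

include hσ in
/-- Classes split by `L` vanish when all norms are surjective. -/
theorem eq_zero_of_norm (hn : ∀ x : K, x ≠ 0 → ∃ y : L, Algebra.norm K y = x)
    [PreservesFiniteLimits (EtCoh.pull (Transfer.str K L))]
    (x : EtCoh.H (Spec (CommRingCat.of K)) (EtCoh.Gm (Spec (CommRingCat.of K))) 2)
    (hx : EtCore.Hpull (Transfer.str K L) _ 2 x = 0) : x = 0 := by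
  have hp := H18Et.FreeSheaf.Hpull_eq_phi (Transfer.str K L) (ρ K (V K L)) (EtCoh.Gm _) 2 x
  have h0 : (Ext.mk₀ (aug K L)).comp x (zero_add 2) = 0 :=
    (H18Et.FreeSheaf.phi_bijective (Transfer.str K L) _ 2).1 ((hp.symm.trans hx).trans (map_zero _).symm)
  obtain ⟨y, rfl⟩ := Ext.contravariant_sequence_exact₃ (shortExact_aug hσ) (EtCoh.Gm _) x h0 (n₀ := 1) rfl
  obtain ⟨w, rfl⟩ := Ext.contravariant_sequence_exact₃ (shortExact_norm K L) (EtCoh.Gm _) y
    (Subsingleton.elim _ _) (n₀ := 0) rfl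
  obtain ⟨φ, hφ⟩ := (Ext.mk₀_bijective _ _).surjective w
  obtain ⟨c, hc⟩ := exists_unit_of_hom K L φ
  obtain ⟨y₀, hy⟩ := hn c c.ne_zero
  have hy0 : y₀ ≠ 0 := fun h => c.ne_zero (by rw [← hy, h, Algebra.norm_zero])
  obtain ⟨ψ, hψ⟩ := (exists_factor_iff K L φ).2
    ⟨Units.mk0 y₀ hy0, hc.trans (congrArg _ ((prod_eq_map_iff K L (Units.mk0 y₀ hy0) c).2 hy).symm)⟩
  have e1 : Ext.mk₀ φ = (Ext.mk₀ (norm K L)).comp (Ext.mk₀ ψ) (zero_add 0) := by
    rw [Ext.mk₀_comp_mk₀, hψ]
  have e2 : (shortExact_norm K L).extClass.comp w (show 1 + 0 = 1 from rfl) = 0 := by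
    rw [← hφ, e1]
    exact ShortComplex.ShortExact.extClass_comp_assoc (shortExact_norm K L) (Ext.mk₀ ψ)
  refine (congrArg (fun z => (shortExact_aug hσ).extClass.comp z (show 1 + 1 = 2 from rfl)) e2).trans ?_
  exact Ext.comp_zero _ _ _ _ _

include hσ in
/-- A non-norm gives a nonzero class killed by the degree. -/
theorem exists_ne_zero (c : K) (hc0 : c ≠ 0) (hc : ∀ y : L, Algebra.norm K y ≠ c) :
    ∃ x : EtCoh.H (Spec (CommRingCat.of K)) (EtCoh.Gm (Spec (CommRingCat.of K))) 2,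
      x ≠ 0 ∧ Module.finrank K L • x = 0 := by
  haveI := H18Et.pull_preservesFiniteLimits (Transfer.str K L)
  obtain ⟨φ, hφ⟩ := exists_hom_of_unit K L (Units.mk0 c hc0)
  let y := (shortExact_norm K L).extClass.comp (Ext.mk₀ φ) (add_zero 1)
  let x := (shortExact_aug hσ).extClass.comp y (show 1 + 1 = 2 from rfl)
  refine ⟨x, fun hx => ?_, Transfer.finrank_nsmul_eq_zero K L _ 2 x ?_⟩
  · obtain ⟨w, hw⟩ := Ext.contravariant_sequence_exact₁ (shortExact_aug hσ) (EtCoh.Gm _) y rfl hx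
    have hy : y = 0 := by
      rw [← hw, Subsingleton.elim w 0]
      exact Ext.comp_zero _ _ _ _ _
    obtain ⟨ψ', hψ'⟩ := Ext.contravariant_sequence_exact₁ (shortExact_norm K L) (EtCoh.Gm _) (Ext.mk₀ φ) rfl hy
    obtain ⟨ψ, rfl⟩ := Ext.addEquiv₀.symm.surjective ψ'
    rw [Ext.addEquiv₀_symm_apply, Ext.mk₀_comp_mk₀] at hψ'
    obtain ⟨u', hu'⟩ := (exists_factor_iff K L φ).1 ⟨ψ, (Ext.mk₀_bijective _ _).injective hψ'⟩
    exact hc u' ((prod_eq_map_iff K L u' (Units.mk0 c hc0)).1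
      (S13680.toS_injective (K := K) L (hu'.symm.trans hφ)))
  · rw [H18Et.FreeSheaf.Hpull_eq_phi (Transfer.str K L) (ρ K (V K L))]
    erw [ShortComplex.ShortExact.comp_extClass_assoc (shortExact_aug hσ)]
    exact map_zero _

end Groth.Agent.H9GalCoh.Cyclic
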