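import Groth.Agent.H9GalCoh.Sections
import Groth.Agent.H15Site.FppfEt.Apps
import Groth.Prelude.Def_EtGm
import Mathlib

/-!
# The free sheaf on the spectrum of a cyclic extension: the periodic exact sequences
-/

set_option autoImplicit false
set_option linter.style.haveILetI false
set_option backward.isDefEq.respectTransparency false
set_option backward.isDefEq.respectTransparency.types false

universe u

open CategoryTheory CategoryTheory.Limits AlgebraicGeometry Opposite Abelian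

namespace Groth.Agent.H9GalCoh.Cyclic

open scoped Groth.Agent.H18Et

variable (K : Type u) [Field K] (L : Type u) [Field L] [Algebra K L] [AlgebraicGeometry.Etale (Transfer.str K L)]

/-- `Spec L` on the site of `Spec K`. -/
noncomputable abbrev V : (Spec (CommRingCat.of K)).Etale := H18Et.FreeSheaf.obj (Transfer.str K L)

/-- The free sheaf on `Spec L`. -/
noncomputable abbrev P : EtCoh.Ab (Spec (CommRingCat.of K)) := (H18Et.FreeSheaf.free _).obj (V K L)

/-- `ℤ`. -/
noncomputable abbrev Z : EtCoh.Ab (Spec (CommRingCat.of K)) := EtCoh.const (Spec (CommRingCat.of K)) ℤ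

/-- The unique map to the final object. -/
noncomputable abbrev ρ (W : (Spec (CommRingCat.of K)).Etale) : W ⟶ EtCoh.top (Spec (CommRingCat.of K)) :=
  (EtCore.topIsTerminal _).from W

/-- The generator of `ℤ` on an object. -/
noncomputable def oneZ (W : (Spec (CommRingCat.of K)).Etale) : (Z K).obj.obj (op W) :=
  (Z K).obj.map (ρ K W).op (Sheaf.H.equiv₀ (Z K) (EtCore.topIsTerminal _) (Ext.mk₀ (𝟙 _)))

/-- The generators of the free sheaf. -/
noncomputable def gen {W : (Spec (CommRingCat.of K)).Etale} (f : W ⟶ V K L) : (P K L).obj.obj (op W) :=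
  (P K L).obj.map f.op (H18Et.FreeSheaf.homEquiv (V K L) (P K L) (𝟙 _))

variable {K L}

theorem map_gen {W W' : (Spec (CommRingCat.of K)).Etale} (g : W' ⟶ W) (f : W ⟶ V K L) :
    (P K L).obj.map g.op (gen K L f) = gen K L (g ≫ f) := by
  rw [gen, gen, op_comp, Functor.map_comp]; rfl

theorem app_gen {W : (Spec (CommRingCat.of K)).Etale} (f : W ⟶ V K L) {F : EtCoh.Ab (Spec (CommRingCat.of K))}
    (φ : P K L ⟶ F) : φ.hom.app (op W) (gen K L f) = F.obj.map f.op (H18Et.FreeSheaf.homEquiv (V K L) F φ) := by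
  rw [gen, NatTrans.naturality_apply, ← H18Et.FreeSheaf.homEquiv_comp, Category.id_comp]

theorem toSheafify_of {W : (Spec (CommRingCat.of K)).Etale} (f : W ⟶ V K L) :
    (toSheafify (Spec (CommRingCat.of K)).smallEtaleTopology ((H18Et.FreeSheaf.freeP _).obj (V K L))).app (op W)
      (FreeAbelianGroup.of (ULift.up f)) = gen K L f := by
  rw [gen, H18Et.FreeSheaf.homEquiv]
  simp only [Equiv.trans_apply]
  erw [Adjunction.homEquiv_unit, Adjunction.homEquiv_unit]
  erw [uliftYonedaEquiv_apply]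
  refine Eq.trans ?_ (ConcreteCategory.congr_hom
    ((toSheafify (Spec (CommRingCat.of K)).smallEtaleTopology ((H18Et.FreeSheaf.freeP _).obj (V K L))).naturality f.op)
    (FreeAbelianGroup.of (ULift.up (𝟙 (V K L)))))
  refine congrArg _ ?_
  show _ = FreeAbelianGroup.map _ (FreeAbelianGroup.of _)
  rw [FreeAbelianGroup.map_of_apply]
  exact congrArg FreeAbelianGroup.of (ULift.ext _ _ (Category.comp_id f).symm)

variable (K L)

/-- The transformation by an automorphism of `L`. -/
noncomputable def gmV (σ : L ≃ₐ[K] L) : V K L ⟶ V K L :=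
  MorphismProperty.Over.homMk (Spec.map (CommRingCat.ofHom σ.toAlgHom.toRingHom)) (by
    show Spec.map _ ≫ 𝟙 _ ≫ Spec.map _ = 𝟙 _ ≫ Spec.map _
    rw [Category.id_comp, ← Spec.map_comp]
    exact congrArg Spec.map (CommRingCat.hom_ext (RingHom.ext fun x => σ.commutes x)))

variable {K L}

theorem gmV_mul (σ τ : L ≃ₐ[K] L) : gmV K L (σ * τ) = gmV K L σ ≫ gmV K L τ :=
  MorphismProperty.Over.Hom.ext (by show Spec.map _ = Spec.map _ ≫ Spec.map _; rw [← Spec.map_comp]; rfl)

theorem gmV_one : gmV K L 1 = 𝟙 _ :=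
  MorphismProperty.Over.Hom.ext (Spec.map_id _)

variable [FiniteDimensional K L] [IsGalois K L]

/-- Points of `Spec L` with values in a field differ by a unique automorphism. -/
theorem existsUnique_gmV (M : Type u) [Field M] [Algebra K M] [FiniteDimensional K M] [Algebra.IsSeparable K M]
    (f g : Transfer.sp K M ⟶ V K L) : ∃! σ : L ≃ₐ[K] L, f ≫ gmV K L σ = g := by
  have key : ∀ h : Transfer.sp K M ⟶ V K L, ∃ a : L →ₐ[K] M, h.left = Spec.map (CommRingCat.ofHom a.toRingHom) := by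
    intro h
    obtain ⟨a, ha⟩ := Spec.map_surjective h.left
    refine ⟨⟨a.hom, fun r => ?_⟩, ha.symm⟩
    have hw : h.left ≫ Transfer.str K L = Transfer.str K M := by
      have h1 : h.left ≫ 𝟙 _ ≫ Transfer.str K L = Transfer.str K M := Over.w h.hom
      rwa [Category.id_comp] at h1
    rw [← ha, Transfer.str, Transfer.str, ← Spec.map_comp] at hw
    exact ConcreteCategory.congr_hom (Spec.map_injective hw) r
  obtain ⟨a, ha⟩ := key f
  obtain ⟨b, hb⟩ := key g
  have hiff : ∀ σ : L ≃ₐ[K] L, f ≫ gmV K L σ = g ↔ a.comp σ.toAlgHom = b := fun σ => by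
    refine ⟨fun h => ?_, fun h => MorphismProperty.Over.Hom.ext ?_⟩
    · have h1 : f.left ≫ Spec.map (CommRingCat.ofHom σ.toAlgHom.toRingHom) = g.left :=
        congrArg (fun k => k.left) h
      rw [ha, hb, ← Spec.map_comp] at h1
      exact AlgHom.coe_ringHom_injective (CommRingCat.hom_ext_iff.1 (Spec.map_injective h1))
    · show f.left ≫ Spec.map _ = g.left
      rw [ha, hb, ← Spec.map_comp, ← h]
      rfl
  letI : Algebra L M := a.toRingHom.toAlgebra
  haveI : IsScalarTower K L M := IsScalarTower.of_algebraMap_eq fun x => (a.commutes x).symm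
  refine ⟨Normal.algHomEquivAut K M L b, (hiff _).2 (AlgHom.ext fun x => ?_), fun τ hτ => ?_⟩
  · exact AlgHom.restrictNormal_commutes b L x
  · refine AlgEquiv.ext fun x => a.toRingHom.injective ?_
    exact (AlgHom.congr_fun ((hiff τ).1 hτ) x).trans (AlgHom.restrictNormal_commutes b L x).symm

/-- Spectra of Galois extensions containing `L` cover every object. -/
theorem exists_point (W : (Spec (CommRingCat.of K)).Etale) (w : W.left) :
    ∃ (M : Type u) (_ : Field M) (_ : Algebra K M) (_ : FiniteDimensional K M) (_ : IsGalois K M)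
      (g : Transfer.sp K M ⟶ W) (z : (Transfer.sp K M).left),
      g.left.base z = w ∧ Nonempty (Transfer.sp K M ⟶ V K L) := by
  obtain ⟨M₀, _, _, _, _, g, z, hz⟩ := Sect.exists_galois_point W w
  let Ω := SeparableClosure K
  let a : M₀ →ₐ[K] Ω := IsSepClosed.lift
  let b : L →ₐ[K] Ω := IsSepClosed.lift
  let E : IntermediateField K Ω := a.fieldRange ⊔ b.fieldRange
  haveI : FiniteDimensional K a.fieldRange := Module.Finite.equiv (AlgEquiv.ofInjectiveField a).toLinearEquiv
  haveI : FiniteDimensional K b.fieldRange := Module.Finite.equiv (AlgEquiv.ofInjectiveField b).toLinearEquiv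
  let M := IntermediateField.normalClosure K E Ω
  haveI : IsGalois K M := IsGalois.normalClosure K E Ω
  have hE : E ≤ M := IntermediateField.le_normalClosure E
  let a' : M₀ →ₐ[K] M := a.codRestrict M.toSubalgebra fun x => hE (le_sup_left (b := b.fieldRange) ⟨x, rfl⟩)
  let b' : L →ₐ[K] M := b.codRestrict M.toSubalgebra fun x => hE (le_sup_right (a := a.fieldRange) ⟨x, rfl⟩)
  let h : Transfer.sp K M ⟶ Transfer.sp K M₀ := MorphismProperty.Over.homMk
    (Spec.map (CommRingCat.ofHom a'.toRingHom)) (by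
      show Spec.map _ ≫ Spec.map _ = Spec.map _
      rw [← Spec.map_comp]
      exact congrArg Spec.map (CommRingCat.hom_ext (RingHom.ext fun x => a'.commutes x)))
  let k : Transfer.sp K M ⟶ V K L := MorphismProperty.Over.homMk
    (Spec.map (CommRingCat.ofHom b'.toRingHom)) (by
      show Spec.map _ ≫ 𝟙 _ ≫ Spec.map _ = Spec.map _
      rw [Category.id_comp, ← Spec.map_comp]
      exact congrArg Spec.map (CommRingCat.hom_ext (RingHom.ext fun x => b'.commutes x)))
  let z' : (Transfer.sp K M).left := (default : PrimeSpectrum M)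
  refine ⟨M, inferInstance, inferInstance, inferInstance, inferInstance, h ≫ g, z', ?_, ⟨k⟩⟩
  haveI : Subsingleton ↥(Transfer.sp K M₀).left := inferInstanceAs (Subsingleton (PrimeSpectrum M₀))
  exact (congrArg g.left.base (Subsingleton.elim (h.left.base z') z)).trans hz

/-- Sections near a point are integral combinations of generators. -/
theorem exists_combination {W : (Spec (CommRingCat.of K)).Etale} (u : (P K L).obj.obj (op W)) (w : W.left) :
    ∃ (M : Type u) (_ : Field M) (_ : Algebra K M) (_ : FiniteDimensional K M) (_ : IsGalois K M)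
      (g : Transfer.sp K M ⟶ W) (z : (Transfer.sp K M).left) (f₀ : Transfer.sp K M ⟶ V K L)
      (n : (L ≃ₐ[K] L) → ℤ),
      g.left.base z = w ∧ (P K L).obj.map g.op u = ∑ σ, n σ • gen K L (f₀ ≫ gmV K L σ) := by
  classical
  let J := (Spec (CommRingCat.of K)).smallEtaleTopology
  let T := toSheafify J ((H18Et.FreeSheaf.freeP (Spec (CommRingCat.of K))).obj (V K L))
  obtain ⟨W', a, w', ⟨v, hv⟩, hw'⟩ := H18Et.Subterminal.exists_mem_of_cover
    (Presheaf.imageSieve_mem J T (U := op W) u) w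
  obtain ⟨M, _, _, _, _, b, z, hz, ⟨f₀⟩⟩ := exists_point (L := L) W' w'
  suffices h : ∀ v' : ((H18Et.FreeSheaf.freeP (Spec (CommRingCat.of K))).obj (V K L)).obj (op W'),
      ∃ n : (L ≃ₐ[K] L) → ℤ, (P K L).obj.map b.op (T.app (op W') v') = ∑ σ, n σ • gen K L (f₀ ≫ gmV K L σ) by
    obtain ⟨n, hn⟩ := h v
    refine ⟨M, inferInstance, inferInstance, inferInstance, inferInstance, b ≫ a, z, f₀, n, ?_, ?_⟩
    · exact (congrArg a.left.base hz).trans hw'
    · rw [← hn, op_comp, Functor.map_comp]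
      exact congrArg ((P K L).obj.map b.op) hv.symm
  intro v'
  induction v' using FreeAbelianGroup.induction_on with
  | zero => exact ⟨0, by rw [map_zero, map_zero]; simp⟩
  | of f =>
    obtain ⟨σ, hσ, -⟩ := existsUnique_gmV M f₀ (b ≫ f.down)
    refine ⟨Pi.single σ 1, ?_⟩
    rw [show T.app (op W') (FreeAbelianGroup.of f) = gen K L f.down from toSheafify_of f.down, map_gen, ← hσ,
      Finset.sum_eq_single σ (fun τ _ hτ => by simp [hτ]) (fun h => absurd (Finset.mem_univ σ) h)]
    simp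
  | neg f hf =>
    obtain ⟨n, hn⟩ := hf
    exact ⟨-n, by rw [map_neg, map_neg, hn]; simp⟩
  | add x y hx hy =>
    obtain ⟨m, hm⟩ := hx
    obtain ⟨n, hn⟩ := hy
    exact ⟨m + n, by rw [map_add, map_add, hm, hn, ← Finset.sum_add_distrib]; simp [add_smul]⟩

/-- The generators over a field are independent. -/
theorem combination_eq_zero (M : Type u) [Field M] [Algebra K M] [FiniteDimensional K M] [Algebra.IsSeparable K M]
    (f₀ : Transfer.sp K M ⟶ V K L) (n : (L ≃ₐ[K] L) → ℤ)
    (h : ∑ σ, n σ • gen K L (f₀ ≫ gmV K L σ) = 0) : n = 0 := by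
  classical
  let J := (Spec (CommRingCat.of K)).smallEtaleTopology
  let Q := (H18Et.FreeSheaf.freeP (Spec (CommRingCat.of K))).obj (V K L)
  let T := toSheafify J Q
  let Y := Transfer.sp K M
  let x : Q.obj (op Y) := ∑ σ, n σ • FreeAbelianGroup.of (ULift.up (f₀ ≫ gmV K L σ))
  have hx : T.app (op Y) x = T.app (op Y) 0 := by
    rw [map_zero]
    refine Eq.trans ?_ h
    show T.app (op Y) (∑ σ, _) = _
    rw [map_sum]
    refine Finset.sum_congr rfl fun σ _ => ?_
    rw [map_zsmul]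
    exact congrArg _ (toSheafify_of _)
  let p₀ : Y.left := (default : PrimeSpectrum M)
  obtain ⟨W, g, w, hg, -⟩ := H18Et.Subterminal.exists_mem_of_cover (Presheaf.equalizerSieve_mem J T x 0 hx) p₀
  obtain ⟨N, _, _, _, _, b, -, -, -⟩ := exists_point (L := L) W w
  have h0 : Q.map (b ≫ g).op x = 0 := by
    rw [op_comp, Functor.map_comp, ← map_zero (Q.map b.op).hom]
    show (Q.map b.op) (Q.map g.op x) = _
    exact congrArg _ ((hg : Q.map g.op x = Q.map g.op 0).trans (map_zero _))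
  have hinj : ∀ σ τ : L ≃ₐ[K] L, (b ≫ g) ≫ f₀ ≫ gmV K L σ = (b ≫ g) ≫ f₀ ≫ gmV K L τ → σ = τ := fun σ τ hστ => by
    rw [← Category.assoc, ← Category.assoc ((b ≫ g)) f₀] at hστ
    exact (existsUnique_gmV N ((b ≫ g) ≫ f₀) (((b ≫ g) ≫ f₀) ≫ gmV K L τ)).unique hστ rfl
  funext σ
  let χ : FreeAbelianGroup (ULift.{u + 1} (Transfer.sp K N ⟶ V K L)) →+ ℤ :=
    FreeAbelianGroup.lift fun f => if f.down = (b ≫ g) ≫ f₀ ≫ gmV K L σ then 1 else 0
  have h1 := congrArg χ h0
  rw [map_zero, map_sum, map_sum] at h1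
  refine Eq.trans ?_ h1
  refine Eq.symm (Eq.trans (Finset.sum_congr rfl fun τ _ => show _ = if τ = σ then n τ else 0 from ?_) (by simp))
  rw [map_zsmul, map_zsmul]
  show n τ • χ (FreeAbelianGroup.map _ (FreeAbelianGroup.of _)) = _
  rw [FreeAbelianGroup.map_of_apply, FreeAbelianGroup.lift_apply_of]
  show n τ • (if (b ≫ g) ≫ f₀ ≫ gmV K L τ = (b ≫ g) ≫ f₀ ≫ gmV K L σ then (1 : ℤ) else 0) = _
  by_cases hτ : τ = σ
  · subst hτ; simp
  · rw [if_neg (fun hh => hτ (hinj _ _ hh)), if_neg hτ, smul_zero]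

variable (K L)

omit [FiniteDimensional K L] [IsGalois K L] in
theorem app_free_map (τ : L ≃ₐ[K] L) {W : (Spec (CommRingCat.of K)).Etale} (f : W ⟶ V K L) :
    ((H18Et.FreeSheaf.free _).map (gmV K L τ)).hom.app (op W) (gen K L f) = gen K L (f ≫ gmV K L τ) := by
  rw [app_gen, ← map_gen]
  congr 1
  rw [← Category.comp_id ((H18Et.FreeSheaf.free _).map (gmV K L τ)), H18Et.FreeSheaf.homEquiv_map]
  rfl

/-- The difference operator of an automorphism. -/
noncomputable def D (σ : L ≃ₐ[K] L) : P K L ⟶ P K L := (H18Et.FreeSheaf.free _).map (gmV K L σ) - 𝟙 _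

omit [FiniteDimensional K L] [IsGalois K L] in
theorem app_D (σ : L ≃ₐ[K] L) {W : (Spec (CommRingCat.of K)).Etale} (f : W ⟶ V K L) :
    (D K L σ).hom.app (op W) (gen K L f) = gen K L (f ≫ gmV K L σ) - gen K L f := by
  rw [← app_free_map K L σ f]
  rfl

/-- The augmentation. -/
noncomputable abbrev aug : P K L ⟶ Z K := H18Et.FreeSheaf.aug (Transfer.str K L) (ρ K (V K L))

omit [FiniteDimensional K L] [IsGalois K L] in
theorem app_aug {W : (Spec (CommRingCat.of K)).Etale} (f : W ⟶ V K L) :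
    (aug K L).hom.app (op W) (gen K L f) = oneZ K W := by
  rw [app_gen, ← Category.comp_id (aug K L), H18Et.FreeSheaf.homEquiv_aug_comp, oneZ,
    ← ConcreteCategory.comp_apply, ← Functor.map_comp, ← op_comp, (EtCore.topIsTerminal _).comp_from]

variable {K L}

/-- The global section of a morphism out of `ℤ`. -/
noncomputable def glob {F : EtCoh.Ab (Spec (CommRingCat.of K))} (φ : Z K ⟶ F) : F.obj.obj (op (EtCoh.top _)) :=
  Sheaf.H.equiv₀ F (EtCore.topIsTerminal _) (Ext.mk₀ φ)

theorem glob_injective {F : EtCoh.Ab (Spec (CommRingCat.of K))} : Function.Injective (glob (K := K) (F := F)) :=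
  (Sheaf.H.equiv₀ F (EtCore.topIsTerminal _)).injective.comp (Ext.mk₀_bijective _ _).injective

theorem glob_surjective {F : EtCoh.Ab (Spec (CommRingCat.of K))} : Function.Surjective (glob (K := K) (F := F)) :=
  (Sheaf.H.equiv₀ F (EtCore.topIsTerminal _)).surjective.comp (Ext.mk₀_bijective _ _).surjective

theorem app_glob {F G : EtCoh.Ab (Spec (CommRingCat.of K))} (φ : Z K ⟶ F) (g : F ⟶ G) :
    g.hom.app (op (EtCoh.top _)) (glob φ) = glob (φ ≫ g) := by
  have h1 := Sheaf.H.equiv₀_naturality (EtCore.topIsTerminal _) g (Ext.mk₀ φ)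
  rw [Sheaf.H.map_apply, Ext.mk₀_comp_mk₀] at h1
  exact h1

theorem app_oneZ {F : EtCoh.Ab (Spec (CommRingCat.of K))} (φ : Z K ⟶ F)
    (W : (Spec (CommRingCat.of K)).Etale) : φ.hom.app (op W) (oneZ K W) = F.obj.map (ρ K W).op (glob φ) := by
  rw [oneZ, NatTrans.naturality_apply]
  refine congrArg _ ?_
  exact (app_glob (𝟙 _) φ).trans (congrArg glob (Category.id_comp φ))

variable (K L)

theorem existsUnique_sp : ∃ (a : V K L ⟶ Transfer.sp K L) (b : Transfer.sp K L ⟶ V K L),
    b ≫ a = 𝟙 _ ∧ b.left = 𝟙 _ ∧ a.left = 𝟙 _ :=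
  ⟨MorphismProperty.Over.homMk (𝟙 _) rfl, MorphismProperty.Over.homMk (𝟙 _) (by
    show 𝟙 _ ≫ 𝟙 _ ≫ Transfer.str K L = Transfer.str K L
    rw [Category.id_comp, Category.id_comp]), MorphismProperty.Over.Hom.ext (Category.id_comp _), rfl, rfl⟩

/-- The norm element. -/
theorem exists_norm : ∃ s : Z K ⟶ P K L, ∀ (W : (Spec (CommRingCat.of K)).Etale) (f : W ⟶ V K L),
    s.hom.app (op W) (oneZ K W) = ∑ τ : L ≃ₐ[K] L, gen K L (f ≫ gmV K L τ) := by
  classical
  obtain ⟨a, b, hba, hb, ha⟩ := existsUnique_sp K L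
  obtain ⟨t, ht⟩ := Transfer.exists_descent K L (P K L) (∑ τ : L ≃ₐ[K] L, gen K L (b ≫ gmV K L τ)) fun σ g hg => by
    rw [map_sum]
    refine Fintype.sum_equiv (Equiv.mulLeft σ) _ _ fun τ => ?_
    rw [map_gen]
    refine congrArg (gen K L) (MorphismProperty.Over.Hom.ext ?_)
    show g.left ≫ b.left ≫ Spec.map _ = b.left ≫ Spec.map _
    rw [hb, hg]
    erw [Category.id_comp, Category.id_comp]
    rw [← Spec.map_comp]
    rfl
  obtain ⟨s, hs⟩ := glob_surjective t
  refine ⟨s, fun W f => ?_⟩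
  rw [app_oneZ, hs, show ρ K W = (f ≫ a) ≫ ρ K (Transfer.sp K L) from (EtCore.topIsTerminal _).hom_ext _ _,
    op_comp, Functor.map_comp]
  refine (congrArg ((P K L).obj.map (f ≫ a).op) ht).trans ?_
  rw [map_sum]
  refine Finset.sum_congr rfl fun τ _ => ?_
  rw [map_gen]
  refine congrArg (gen K L) (MorphismProperty.Over.Hom.ext ?_)
  show (f.left ≫ a.left) ≫ b.left ≫ Spec.map _ = f.left ≫ Spec.map _
  rw [ha, hb]
  erw [Category.comp_id, Category.id_comp]

/-- The norm morphism `ℤ → ℤ[V]`. -/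
noncomputable def norm : Z K ⟶ P K L := (exists_norm K L).choose

theorem app_norm {W : (Spec (CommRingCat.of K)).Etale} (f : W ⟶ V K L) :
    (norm K L).hom.app (op W) (oneZ K W) = ∑ τ : L ≃ₐ[K] L, gen K L (f ≫ gmV K L τ) :=
  (exists_norm K L).choose_spec W f

/-- Morphisms out of `ℤ` agree when they agree over `L`. -/
theorem hom_ext {F : EtCoh.Ab (Spec (CommRingCat.of K))} {φ ψ : Z K ⟶ F}
    (h : φ.hom.app (op (Transfer.sp K L)) (oneZ K _) = ψ.hom.app (op (Transfer.sp K L)) (oneZ K _)) : φ = ψ := by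
  rw [app_oneZ, app_oneZ] at h
  exact glob_injective (Transfer.res_injective K L F h)

theorem exists_hom_sp : Nonempty (Transfer.sp K L ⟶ V K L) := by
  obtain ⟨a, b, -⟩ := existsUnique_sp K L
  exact ⟨b⟩

theorem norm_D (σ : L ≃ₐ[K] L) : norm K L ≫ D K L σ = 0 := by
  obtain ⟨f⟩ := exists_hom_sp K L
  refine hom_ext K L ?_
  show (D K L σ).hom.app _ ((norm K L).hom.app _ (oneZ K _)) = 0
  rw [app_norm K L f, map_sum, Finset.sum_congr rfl fun τ _ => app_D K L σ (f ≫ gmV K L τ),
    Finset.sum_sub_distrib, sub_eq_zero]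
  exact Fintype.sum_equiv (Equiv.mulRight σ) _ _ fun τ => by
    rw [Category.assoc, ← gmV_mul]; rfl

omit [FiniteDimensional K L] [IsGalois K L] in
theorem D_aug (σ : L ≃ₐ[K] L) : D K L σ ≫ aug K L = 0 := by
  refine (H18Et.FreeSheaf.homEquiv (V K L) (Z K)).injective ?_
  have h : ∀ φ : P K L ⟶ Z K, H18Et.FreeSheaf.homEquiv (V K L) (Z K) φ = φ.hom.app (op (V K L)) (gen K L (𝟙 _)) :=
    fun φ => by rw [app_gen, op_id, CategoryTheory.Functor.map_id]; rfl
  rw [h, h]
  show (aug K L).hom.app _ ((D K L σ).hom.app _ (gen K L (𝟙 _))) = 0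
  rw [app_D, map_sub, app_aug, app_aug, sub_self]

theorem norm_aug : norm K L ≫ aug K L = Fintype.card (L ≃ₐ[K] L) • 𝟙 (Z K) := by
  obtain ⟨f⟩ := exists_hom_sp K L
  refine hom_ext K L ?_
  rw [app_oneZ (Fintype.card (L ≃ₐ[K] L) • 𝟙 (Z K)), glob,
    show Ext.mk₀ (Fintype.card (L ≃ₐ[K] L) • 𝟙 (Z K)) = Fintype.card (L ≃ₐ[K] L) • Ext.mk₀ (𝟙 (Z K)) from
      map_nsmul Ext.addEquiv₀.symm _ _, map_nsmul, map_nsmul]
  show (aug K L).hom.app _ ((norm K L).hom.app _ (oneZ K _)) = _
  rw [app_norm K L f, map_sum, Finset.sum_congr rfl fun τ _ => app_aug K L (f ≫ gmV K L τ), Finset.sum_const,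
    Finset.card_univ]
  rfl

instance epi_aug : Epi (aug K L) := by
  refine ⟨fun φ ψ h => hom_ext K L ?_⟩
  obtain ⟨f⟩ := exists_hom_sp K L
  rw [← app_aug K L f]
  exact congrArg (fun t : P K L ⟶ _ => t.hom.app (op (Transfer.sp K L)) (gen K L f)) h

instance mono_norm : Mono (norm K L) := by
  suffices h : Mono (Fintype.card (L ≃ₐ[K] L) • 𝟙 (Z K)) by
    rw [← norm_aug] at h
    exact mono_of_mono (norm K L) (aug K L)
  let m := Fintype.card (L ≃ₐ[K] L)
  let A := AddCommGrpCat.of (ULift.{u + 1} ℤ)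
  haveI : Mono (m • 𝟙 A) := by
    rw [AddCommGrpCat.mono_iff_injective]
    intro x y h
    have h' : m • x = m • y := h
    exact ULift.ext _ _ (nsmul_right_injective (M := ℤ) Fintype.card_ne_zero (congrArg ULift.down h'))
  haveI : Mono ((Functor.const (Spec (CommRingCat.of K)).Etaleᵒᵖ).map (m • 𝟙 A)) :=
    haveI : ∀ X, Mono (((Functor.const (Spec (CommRingCat.of K)).Etaleᵒᵖ).map (m • 𝟙 A)).app X) :=
      fun _ => inferInstanceAs (Mono (m • 𝟙 A))
    NatTrans.mono_of_mono_app _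
  haveI : Mono ((presheafToSheaf (Spec (CommRingCat.of K)).smallEtaleTopology AddCommGrpCat.{u + 1}).map
    ((Functor.const (Spec (CommRingCat.of K)).Etaleᵒᵖ).map (m • 𝟙 A))) := inferInstance
  have e : (presheafToSheaf (Spec (CommRingCat.of K)).smallEtaleTopology AddCommGrpCat.{u + 1}).map
      ((Functor.const (Spec (CommRingCat.of K)).Etaleᵒᵖ).map (m • 𝟙 A)) = m • 𝟙 (Z K) := by
    rw [Functor.map_nsmul, Functor.map_nsmul, CategoryTheory.Functor.map_id, CategoryTheory.Functor.map_id]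
    rfl
  rw [← e]; infer_instance

variable {σ : L ≃ₐ[K] L} (hσ : ∀ τ : L ≃ₐ[K] L, ∃ i : ℕ, σ ^ i = τ)

include hσ

theorem exact_norm_D : (ShortComplex.mk (norm K L) (D K L σ) (norm_D K L σ)).Exact := by
  refine H15Site.FppfEt.exact_of_local.{u + 1, u, u + 1} fun W x hx => ?_
  refine ⟨⟨fun Z' f => ∃ y, (norm K L).hom.app (op Z') y = (P K L).obj.map f.op x, fun {Z' Z''} f hf g => by
    obtain ⟨y, hy⟩ := hf
    exact ⟨(Z K).obj.map g.op y, by
      rw [NatTrans.naturality_apply, hy, op_comp, Functor.map_comp]; rfl⟩⟩,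
    H18Et.mem_topology_of_forall_point _ fun w => ?_, fun _ _ hf => hf⟩
  obtain ⟨M, _, _, _, _, g, z, f₀, n, hz, hn⟩ := exists_combination x w
  refine ⟨_, g, z, ⟨n 1 • oneZ K _, ?_⟩, hz⟩
  have h0 : ∑ τ, (n (τ * σ⁻¹) - n τ) • gen K L (f₀ ≫ gmV K L τ) = 0 := by
    have e1 := NatTrans.naturality_apply (D K L σ).hom g.op x
    rw [hn, show (D K L σ).hom.app (op W) x = 0 from hx, map_zero, map_sum] at e1
    rw [← e1]
    simp only [sub_smul, map_zsmul, app_D, smul_sub, Finset.sum_sub_distrib]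
    congr 1
    refine Fintype.sum_equiv (Equiv.mulRight σ⁻¹) _ _ fun τ => ?_
    rw [Category.assoc, ← gmV_mul, Equiv.coe_mulRight, inv_mul_cancel_right]
  have h1 : ∀ i : ℕ, n (σ ^ i) = n 1 := fun i => by
    induction i with
    | zero => rw [pow_zero]
    | succ i ih =>
      have := congrFun (combination_eq_zero M f₀ _ h0) (σ ^ (i + 1))
      rw [Pi.zero_apply, sub_eq_zero, pow_succ, mul_inv_cancel_right, ih] at this
      rw [pow_succ]; exact this.symm
  rw [hn, map_zsmul, app_norm K L f₀, Finset.smul_sum]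
  refine Finset.sum_congr rfl fun τ _ => ?_
  obtain ⟨i, rfl⟩ := hσ τ
  rw [h1]

theorem exact_D_aug : (ShortComplex.mk (D K L σ) (aug K L) (D_aug K L σ)).Exact := by
  refine H15Site.FppfEt.exact_of_local.{u + 1, u, u + 1} fun W x hx => ?_
  refine ⟨⟨fun Z' f => ∃ y, (D K L σ).hom.app (op Z') y = (P K L).obj.map f.op x, fun {Z' Z''} f hf g => by
    obtain ⟨y, hy⟩ := hf
    exact ⟨(P K L).obj.map g.op y, by
      rw [NatTrans.naturality_apply, hy, op_comp, Functor.map_comp]; rfl⟩⟩,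
    H18Et.mem_topology_of_forall_point _ fun w => ?_, fun _ _ hf => hf⟩
  obtain ⟨M, _, _, _, _, g, z, f₀, n, hz, hn⟩ := exists_combination x w
  refine ⟨_, g, z, ?_, hz⟩
  have hsum : ∑ τ, n τ = 0 := by
    have e1 := NatTrans.naturality_apply (aug K L).hom g.op x
    rw [hn, show (aug K L).hom.app (op W) x = 0 from hx, map_zero, map_sum] at e1
    simp only [map_zsmul, app_aug, ← Finset.sum_smul] at e1
    have e2 := congrArg ((norm K L).hom.app (op (Transfer.sp K M))) e1
    rw [map_zero, map_zsmul, app_norm K L f₀, Finset.smul_sum] at e2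
    exact congrFun (combination_eq_zero M f₀ (fun _ => ∑ τ, n τ) e2) 1
  have htel : ∀ i : ℕ, ∃ y, (D K L σ).hom.app (op (Transfer.sp K M)) y =
      gen K L (f₀ ≫ gmV K L (σ ^ i)) - gen K L f₀ := fun i => by
    induction i with
    | zero => exact ⟨0, by rw [map_zero, pow_zero, gmV_one, Category.comp_id, sub_self]⟩
    | succ i ih =>
      obtain ⟨y, hy⟩ := ih
      exact ⟨y + gen K L (f₀ ≫ gmV K L (σ ^ i)), by
        rw [map_add, hy, app_D, Category.assoc, ← gmV_mul, ← pow_succ]; abel⟩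
  choose i hi using hσ
  choose y hy using fun τ => htel (i τ)
  refine ⟨∑ τ, n τ • y τ, ?_⟩
  rw [hn, map_sum, Finset.sum_congr rfl fun τ _ => (map_zsmul _ (n τ) (y τ)).trans (congrArg (n τ • ·) (hy τ))]
  simp only [hi, smul_sub, Finset.sum_sub_distrib, ← Finset.sum_smul, hsum, zero_smul, sub_zero]

end Groth.Agent.H9GalCoh.Cyclic
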