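import Groth.Agent.H9GalCoh.H1Galois
import Groth.Agent.H18Et.Stalk
import Mathlib.GroupTheory.PGroup
import Mathlib.FieldTheory.Galois.Basic
import Mathlib.RingTheory.Artinian.Module
import Mathlib

/-!
# Sections of torsion sheaves over a field whose separable extensions have `p`-power degree
-/

set_option autoImplicit false
set_option linter.style.haveILetI false
set_option backward.isDefEq.respectTransparency false
set_option backward.isDefEq.respectTransparency.types false

universe u

open CategoryTheory CategoryTheory.Limits AlgebraicGeometry Opposite TensorProduct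

namespace Groth.Agent.H9GalCoh.Sect

variable {K : Type u} [Field K]

/-- All finite separable extensions have `p`-power degree. -/
def IsPClosed (p : ℕ) (K : Type u) [Field K] : Prop :=
  ∀ (L : Type u) [Field L] [Algebra K L], FiniteDimensional K L → Algebra.IsSeparable K L →
    ∃ m : ℕ, Module.finrank K L = p ^ m

/-- Every point of an etale scheme over a field is hit by the spectrum of a finite Galois extension. -/
theorem exists_galois_point (W : (Spec (CommRingCat.of K)).Etale) (w : W.left) :
    ∃ (M : Type u) (_ : Field M) (_ : Algebra K M) (_ : FiniteDimensional K M) (_ : IsGalois K M)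
      (g : Transfer.sp K M ⟶ W) (z : (Transfer.sp K M).left), g.left.base z = w := by
  obtain ⟨_, ⟨O, hO, rfl⟩, hwO, -⟩ :=
    W.left.isBasis_affineOpens.exists_subset_of_mem_open (Set.mem_univ w) isOpen_univ
  haveI : AlgebraicGeometry.Etale W.hom := W.prop
  haveI : IsAffine (O : Scheme.{u}) := hO
  obtain ⟨ψ, hψ⟩ : ∃ ψ, Spec.map ψ = hO.fromSpec ≫ W.hom := ⟨_, Spec.map_preimage _⟩
  haveI hψe : AlgebraicGeometry.Etale (Spec.map ψ) := by rw [hψ]; infer_instance
  let B := Γ(W.left, O)
  letI : Algebra K B := ψ.hom.toAlgebra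
  haveI : Algebra.Etale K B :=
    RingHom.etale_algebraMap.mp ((HasRingHomProperty.Spec_iff (P := @AlgebraicGeometry.Etale)).1 hψe)
  haveI : Module.Finite K B := Algebra.FormallyUnramified.finite_of_free K B
  haveI : IsArtinianRing B := IsArtinianRing.of_finite K B
  let m := (hO.primeIdealOf ⟨w, hwO⟩).asIdeal
  haveI : m.IsMaximal := IsArtinianRing.isMaximal_of_isPrime m
  letI := Ideal.Quotient.field m
  haveI : FiniteDimensional K (B ⧸ m) := Module.Finite.of_surjective (Ideal.Quotient.mkₐ K m).toLinearMap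
    Ideal.Quotient.mk_surjective
  haveI : Algebra.IsSeparable K (B ⧸ m) := inferInstance
  haveI he := Transfer.etale_str K (B ⧸ m)
  obtain ⟨M, _, _, _, _, ⟨a⟩⟩ := H1Galois.exists_galois_over (K := K) (B ⧸ m)
  let b : H18Et.FreeSheaf.obj (Transfer.str K (B ⧸ m)) ⟶ W :=
    MorphismProperty.Over.homMk (Spec.map (CommRingCat.ofHom (Ideal.Quotient.mk m)) ≫ hO.fromSpec) (by
      show (Spec.map _ ≫ hO.fromSpec) ≫ W.hom = 𝟙 _ ≫ Transfer.str K (B ⧸ m)
      rw [Category.id_comp, Category.assoc, ← hψ, ← Spec.map_comp]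
      rfl)
  let z : (Transfer.sp K M).left := (default : PrimeSpectrum M)
  refine ⟨M, inferInstance, inferInstance, inferInstance, inferInstance, a ≫ b, z, ?_⟩
  have h1 : Spec.map (CommRingCat.ofHom (Ideal.Quotient.mk m)) (a.left.base z) = hO.primeIdealOf ⟨w, hwO⟩ := by
    refine PrimeSpectrum.ext ?_
    change (PrimeSpectrum.comap (Ideal.Quotient.mk m) (a.left.base z : PrimeSpectrum (B ⧸ m))).asIdeal = m
    rw [PrimeSpectrum.comap_asIdeal, (Ideal.eq_bot_or_top _).resolve_right
      (a.left.base z : PrimeSpectrum (B ⧸ m)).isPrime.ne_top, ← RingHom.ker_eq_comap_bot, Ideal.mk_ker]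
  exact (congrArg hO.fromSpec h1).trans (hO.fromSpec_primeIdealOf ⟨w, hwO⟩)

/-- A nonzero global section stays nonzero on every nonempty etale scheme. -/
theorem eq_zero_of_rest (F : EtCoh.Ab (Spec (CommRingCat.of K)))
    (t : F.obj.obj (op (EtCoh.top _))) (W : (Spec (CommRingCat.of K)).Etale) (w : W.left)
    (h : F.obj.map ((EtCore.topIsTerminal _).from W).op t = 0) : t = 0 := by
  obtain ⟨M, _, _, _, _, g, -⟩ := exists_galois_point W w
  refine Transfer.res_injective K M F ?_
  rw [map_zero, ← (EtCore.topIsTerminal _).comp_from g, op_comp, Functor.map_comp]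
  exact (congrArg (F.obj.map g.op) h).trans (map_zero _)

/-- A sheaf over a field without sections on spectra of Galois extensions is zero. -/
theorem eq_zero_of_galois (F : EtCoh.Ab (Spec (CommRingCat.of K)))
    (h : ∀ (M : Type u) [Field M] [Algebra K M] [FiniteDimensional K M] [IsGalois K M]
      (s : F.obj.obj (op (Transfer.sp K M))), s = 0)
    (W : (Spec (CommRingCat.of K)).Etale) (s : F.obj.obj (op W)) : s = 0 := by
  let R : Sieve W :=
    { arrows := fun V g => F.obj.map g.op s = 0
      downward_closed := fun {V V' g} hg f => by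
        rw [op_comp, Functor.map_comp]
        exact (congrArg (F.obj.map f.op) hg).trans (map_zero _) }
  have hR : R ∈ (Spec (CommRingCat.of K)).smallEtaleTopology W :=
    H18Et.mem_topology_of_forall_point _ fun w => by
      obtain ⟨M, _, _, _, _, g, z, hz⟩ := exists_galois_point W w
      exact ⟨_, g, z, h M _, hz⟩
  exact (((isSheaf_iff_isSheaf_of_type _ _).1
    ((sheafCompose _ (CategoryTheory.forget AddCommGrpCat.{u + 1})).obj F).property) R hR).isSeparatedFor.ext
      (t₁ := s) (t₂ := (0 : F.obj.obj (op W)))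
      fun V g hg => (hg : F.obj.map g.op s = 0).trans (map_zero (F.obj.map g.op).hom).symm

/-- A nonzero sheaf killed by a power of `p` has a global section of order `p`. -/
theorem exists_section_order_p {p : ℕ} [hp : Fact p.Prime] (hK : IsPClosed p K) (a : ℕ)
    (F : EtCoh.Ab (Spec (CommRingCat.of K))) (hF : EtCoh.KilledBy (p ^ a) F) (hne : ¬ IsZero F) :
    ∃ t : F.obj.obj (op (EtCoh.top (Spec (CommRingCat.of K)))), t ≠ 0 ∧ p • t = 0 := by
  classical
  by_contra hcon
  push Not at hcon
  refine hne ((IsZero.iff_id_eq_zero _).2 (Sheaf.hom_ext ?_))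
  refine NatTrans.ext (funext fun W => AddCommGrpCat.ext fun s => ?_)
  change s = 0
  refine eq_zero_of_galois F (fun M _ _ _ _ s => ?_) W.unop s
  by_contra hs
  -- some multiple of `s` has order `p`
  have hex : ∃ j, p ^ j • s = 0 := ⟨a, hF _ s⟩
  obtain ⟨j, hj, hmin⟩ : ∃ j, p ^ j • s = 0 ∧ ∀ i < j, p ^ i • s ≠ 0 :=
    ⟨Nat.find hex, Nat.find_spec hex, fun i hi => Nat.find_min hex hi⟩
  cases j with
  | zero => exact hs (by simpa using hj)
  | succ j =>
    let s₁ := p ^ j • s
    have hs₁ : s₁ ≠ 0 := hmin j (Nat.lt_succ_self j)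
    have hps : p • s₁ = 0 := by rw [smul_smul, ← pow_succ']; exact hj
    let G := M ≃ₐ[K] M
    let act : G → F.obj.obj (op (Transfer.sp K M)) → F.obj.obj (op (Transfer.sp K M)) :=
      fun σ x => F.obj.map (H1Galois.gm M σ).op x
    have hone : ∀ x, act 1 x = x := fun x => by
      have e : H1Galois.gm M (1 : G) = 𝟙 _ := MorphismProperty.Over.Hom.ext (Spec.map_id _)
      change F.obj.map (H1Galois.gm M (1 : G)).op x = x
      rw [e, op_id, CategoryTheory.Functor.map_id]
      rfl
    let H : AddSubgroup (F.obj.obj (op (Transfer.sp K M))) := AddSubgroup.closure (Set.range fun σ : G => act σ s₁)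
    have hHp : ∀ x ∈ H, p • x = 0 := fun x hx => by
      refine AddSubgroup.closure_induction (p := fun x _ => p • x = 0) ?_ (smul_zero _)
        (fun x y _ _ hx hy => by rw [smul_add, hx, hy, add_zero]) (fun x _ hx => by rw [smul_neg, hx, neg_zero]) hx
      rintro _ ⟨σ, rfl⟩
      exact (map_nsmul _ _ _).symm.trans ((congrArg (act σ) hps).trans (map_zero _))
    have hHG : ∀ σ : G, ∀ x ∈ H, act σ x ∈ H := fun σ x hx => by
      refine AddSubgroup.closure_induction (p := fun x _ => act σ x ∈ H) ?_ ?_
        (fun x y _ _ hx hy => ?_) (fun x _ hx => ?_) hx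
      · rintro _ ⟨τ, rfl⟩
        exact AddSubgroup.subset_closure ⟨σ * τ, H1Galois.map_gm_mul M F σ τ s₁⟩
      · show F.obj.map (H1Galois.gm M σ).op 0 ∈ H
        rw [map_zero]; exact H.zero_mem
      · show F.obj.map (H1Galois.gm M σ).op (x + y) ∈ H
        rw [map_add]; exact H.add_mem hx hy
      · show F.obj.map (H1Galois.gm M σ).op (-x) ∈ H
        rw [map_neg]; exact H.neg_mem hx
    haveI : AddGroup.FG H := (AddGroup.fg_iff_addSubgroup_fg H).2 ((AddSubgroup.fg_iff H).2 ⟨_, rfl, Set.finite_range _⟩)
    haveI : Finite H := AddCommGroup.finite_of_fg_isAddTorsion H fun x =>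
      isOfFinAddOrder_iff_nsmul_eq_zero.2 ⟨p, hp.out.pos, Subtype.ext (hHp x x.2)⟩
    letI : MulAction G H :=
      { smul := fun σ x => ⟨act σ x, hHG σ x x.2⟩
        one_smul := fun x => Subtype.ext (hone x)
        mul_smul := fun σ τ x => Subtype.ext (H1Galois.map_gm_mul M F σ τ x) }
    obtain ⟨m, hm⟩ := hK M inferInstance inferInstance
    have hG : IsPGroup p G := IsPGroup.of_card (n := m) ((IsGalois.card_aut_eq_finrank K M).trans hm)
    have hdvd : p ∣ Nat.card H := by
      refine (addOrderOf_eq_prime (x := (⟨s₁, AddSubgroup.subset_closure ⟨1, hone s₁⟩⟩ : H))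
        (Subtype.ext hps) (fun h => hs₁ (congrArg Subtype.val h))).symm.dvd.trans ?_
      exact addOrderOf_dvd_natCard _
    obtain ⟨b, hb, hb0⟩ := hG.exists_fixed_point_of_prime_dvd_card_of_fixed_point H hdvd (a := 0)
      (fun σ => Subtype.ext (map_zero (F.obj.map (H1Galois.gm M σ).op).hom))
    obtain ⟨t, ht⟩ := Transfer.exists_descent K M F b.1 fun σ g hg => by
      rw [show g = H1Galois.gm M σ from MorphismProperty.Over.Hom.ext hg]
      exact congrArg Subtype.val (hb σ)
    refine hcon t (fun h => hb0 (Subtype.ext ?_)) (Transfer.res_injective K M F ?_)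
    · exact ((congrArg Subtype.val rfl).trans ((congrArg _ h).trans (map_zero _)).symm).trans ht
    · rw [map_nsmul, ht, map_zero]
      exact hHp b.1 b.2

end Groth.Agent.H9GalCoh.Sect
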