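import Groth.Agent.H18Et.FreeSheaf
import Groth.Agent.H18Et.StalkSets
import Groth.Agent.H18Et.GaloisSheaf
import Mathlib

/-!
# Transfer along a finite separable extension of fields

For a finite separable extension `L/K` there is a section of the free sheaf on `Spec L` over
`Spec K` whose augmentation is multiplication by `[L : K]`; hence a cohomology class over `K`
killed in `L` is killed by `[L : K]`.
-/

set_option autoImplicit false
set_option linter.style.haveILetI false
set_option backward.isDefEq.respectTransparency false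
set_option backward.isDefEq.respectTransparency.types false

universe u

open CategoryTheory CategoryTheory.Limits AlgebraicGeometry Opposite Abelian TensorProduct

namespace Groth.Agent.H9GalCoh.Transfer

variable (K : Type u) [Field K] (L : Type u) [Field L] [Algebra K L]

/-- `Spec L ⟶ Spec K`. -/
noncomputable abbrev str : Spec (CommRingCat.of L) ⟶ Spec (CommRingCat.of K) :=
  Spec.map (CommRingCat.ofHom (algebraMap K L))

theorem etale_str [FiniteDimensional K L] [Algebra.IsSeparable K L] : AlgebraicGeometry.Etale (str K L) :=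
  (HasRingHomProperty.Spec_iff (P := @AlgebraicGeometry.Etale)).2 <| RingHom.etale_algebraMap.mpr
    ⟨Algebra.FormallyEtale.of_isSeparable K L, Algebra.FinitePresentation.of_finiteType.mp inferInstance⟩

variable [FiniteDimensional K L] [Algebra.IsSeparable K L]

/-- Every morphism to the tensor square of a Galois extension is covered by the graphs. -/
theorem exists_graph (M : Type u) [Field M] [Algebra K M] [Normal K M] (q : PrimeSpectrum (M ⊗[K] M)) :
    ∃ σ : M ≃ₐ[K] M, q.asIdeal =
      RingHom.ker (Algebra.TensorProduct.lift (AlgHom.id K M) σ.toAlgHom fun _ _ => Commute.all _ _) := by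
  let κ := q.asIdeal.ResidueField
  let a : M →ₐ[K] κ := (IsScalarTower.toAlgHom K (M ⊗[K] M) κ).comp Algebra.TensorProduct.includeLeft
  let b : M →ₐ[K] κ := (IsScalarTower.toAlgHom K (M ⊗[K] M) κ).comp Algebra.TensorProduct.includeRight
  letI : Algebra M κ := a.toRingHom.toAlgebra
  haveI : IsScalarTower K M κ := IsScalarTower.of_algebraMap_eq fun x => (a.commutes x).symm
  let σ : M ≃ₐ[K] M := Normal.algHomEquivAut K κ M b
  have hσ : ∀ x, a (σ x) = b x := fun x => by
    show algebraMap M κ (AlgHom.restrictNormal' b M x) = b x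
    exact AlgHom.restrictNormal_commutes b M x
  refine ⟨σ, Ideal.ext fun z => ?_⟩
  have h : IsScalarTower.toAlgHom K (M ⊗[K] M) κ = a.comp
      (Algebra.TensorProduct.lift (AlgHom.id K M) σ.toAlgHom fun _ _ => Commute.all _ _) := by
    ext x
    · simp [a]
    · simpa [b] using (hσ x).symm
  rw [RingHom.mem_ker, ← Ideal.algebraMap_residueField_eq_zero (I := q.asIdeal)]
  refine (Iff.of_eq (congrArg (· = 0) (DFunLike.congr_fun h z))).trans ?_
  exact map_eq_zero_iff a a.toRingHom.injective

/-- `Spec M` as an object of the etale site of `Spec K`. -/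
noncomputable abbrev sp (M : Type u) [Field M] [Algebra K M] [FiniteDimensional K M] [Algebra.IsSeparable K M] :
    (Spec (CommRingCat.of K)).Etale :=
  haveI := etale_str K M
  Scheme.Etale.mk (str K M)

theorem res_injective (M : Type u) [Field M] [Algebra K M] [FiniteDimensional K M] [Algebra.IsSeparable K M]
    (F : EtCoh.Ab (Spec (CommRingCat.of K))) :
    Function.Injective (F.obj.map ((EtCore.topIsTerminal _).from (sp K M)).op) := by
  intro s t hst
  refine (((isSheaf_iff_isSheaf_of_type _ _).1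
    ((sheafCompose _ (CategoryTheory.forget AddCommGrpCat.{u + 1})).obj F).property)
      (Sieve.generate (Presieve.singleton ((EtCore.topIsTerminal _).from (sp K M)))) ?_).isSeparatedFor.ext ?_
  · refine Groth.Agent.H18Et.mem_topology_of_forall_point _ fun x => ?_
    let p₀ : ↥(Spec (CommRingCat.of M)) := (default : PrimeSpectrum M)
    refine ⟨sp K M, (EtCore.topIsTerminal _).from _, p₀, Sieve.le_generate _ _ _ (Presieve.singleton_self _), ?_⟩
    haveI : Subsingleton ↥(EtCoh.top (Spec (CommRingCat.of K))).left :=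
      inferInstanceAs (Subsingleton (PrimeSpectrum K))
    exact Subsingleton.elim _ _
  · rintro W g ⟨W', a, b, ⟨⟩, rfl⟩
    simp only [Functor.map_comp, op_comp]
    exact congrArg (F.obj.map a.op) hst

theorem exists_descent (M : Type u) [Field M] [Algebra K M] [FiniteDimensional K M] [Algebra.IsSeparable K M]
    [Normal K M] (F : EtCoh.Ab (Spec (CommRingCat.of K))) (s : F.obj.obj (op (sp K M)))
    (hs : ∀ (σ : M ≃ₐ[K] M) (g : sp K M ⟶ sp K M),
      g.left = Spec.map (CommRingCat.ofHom σ.toAlgHom.toRingHom) → F.obj.map g.op s = s) :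
    ∃ t, F.obj.map ((EtCore.topIsTerminal _).from (sp K M)).op t = s := by
  classical
  let Y := sp K M
  have hsheaf : ∀ {W : (Spec (CommRingCat.of K)).Etale} {R : Sieve W},
      R ∈ (Spec (CommRingCat.of K)).smallEtaleTopology W →
      Presieve.IsSheafFor (F.obj ⋙ CategoryTheory.forget AddCommGrpCat.{u + 1}) R.arrows :=
    fun hR => ((isSheaf_iff_isSheaf_of_type _ _).1
      ((sheafCompose _ (CategoryTheory.forget AddCommGrpCat.{u + 1})).obj F).property) _ hR
  have hR₀ : Presieve.IsSheafFor (F.obj ⋙ CategoryTheory.forget AddCommGrpCat.{u + 1})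
      (Presieve.singleton ((EtCore.topIsTerminal _).from Y)) := by
    rw [Presieve.isSheafFor_iff_generate]
    refine hsheaf (Groth.Agent.H18Et.mem_topology_of_forall_point _ fun x => ?_)
    let p₀ : ↥(Spec (CommRingCat.of M)) := (default : PrimeSpectrum M)
    refine ⟨Y, (EtCore.topIsTerminal _).from Y, p₀, Sieve.le_generate _ _ _ (Presieve.singleton_self _), ?_⟩
    haveI : Subsingleton ↥(EtCoh.top (Spec (CommRingCat.of K))).left :=
      inferInstanceAs (Subsingleton (PrimeSpectrum K))
    exact Subsingleton.elim _ _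
  refine (Presieve.isSheafFor_singleton.1 hR₀ s fun {Z} p₁ p₂ _ => ?_).exists
  let gm : ∀ σ : M ≃ₐ[K] M, Y ⟶ Y := fun σ => MorphismProperty.Over.homMk
    (Spec.map (CommRingCat.ofHom σ.toAlgHom.toRingHom)) (by
      show Spec.map _ ≫ Spec.map _ = Spec.map _
      rw [← Spec.map_comp]
      exact congrArg Spec.map (CommRingCat.hom_ext (RingHom.ext fun x => σ.commutes x)))
  -- the pairs `(p₁, p₂)` are locally graphs
  refine (hsheaf (W := Z) (R := ⟨fun W g => ∃ σ, g ≫ p₂ = g ≫ p₁ ≫ gm σ, fun {W W'} g hg a => by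
      obtain ⟨σ, h⟩ := hg
      exact ⟨σ, by rw [Category.assoc, h, Category.assoc]⟩⟩) ?_).isSeparatedFor.ext ?_
  · refine Groth.Agent.H18Et.mem_topology_of_forall_point _ fun z => ?_
    let w := pullback.lift p₁.left p₂.left
      ((Over.w p₁.hom).trans (Over.w p₂.hom).symm : p₁.left ≫ str K M = p₂.left ≫ str K M) ≫
      (pullbackSpecIso K M M).hom
    obtain ⟨σ, hσ⟩ := exists_graph K M (w z)
    let π := Algebra.TensorProduct.lift (AlgHom.id K M) σ.toAlgHom fun _ _ => Commute.all _ _
    have hπ : Function.Surjective π := fun m => ⟨m ⊗ₜ 1, by simp [π]⟩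
    let V : Scheme.{u} := Spec (CommRingCat.of M)
    let c : V ⟶ Spec (CommRingCat.of (M ⊗[K] M)) := Spec.map (CommRingCat.ofHom π.toRingHom)
    haveI : IsClosedImmersion c := IsClosedImmersion.spec_of_surjective _ hπ
    haveI : IsOpenImmersion c := by
      haveI : AlgebraicGeometry.Etale c := by
        refine (HasRingHomProperty.Spec_iff (P := @AlgebraicGeometry.Etale)).2 ?_
        algebraize [π.toRingHom]
        haveI : IsScalarTower K (M ⊗[K] M) M := IsScalarTower.of_algebraMap_eq fun x => (π.commutes x).symm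
        haveI : Algebra.FormallyEtale K M := Algebra.FormallyEtale.of_isSeparable K M
        haveI : Algebra.Etale K M := ⟨inferInstance, Algebra.FinitePresentation.of_finiteType.mp inferInstance⟩
        haveI : Algebra.Etale K (M ⊗[K] M) := Algebra.Etale.comp K M (M ⊗[K] M)
        exact Algebra.Etale.of_restrictScalars K (M ⊗[K] M) M
      exact IsOpenImmersion.of_flat_of_mono c
    let O : Z.left.Opens := w ⁻¹ᵁ c.opensRange
    let U : (Spec (CommRingCat.of K)).Etale :=
      haveI : AlgebraicGeometry.Etale Z.hom := Z.prop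
      Scheme.Etale.mk (O.ι ≫ Z.hom)
    let g : U ⟶ Z := MorphismProperty.Over.homMk O.ι rfl
    have hz : z ∈ O := by
      refine ⟨(default : PrimeSpectrum M), PrimeSpectrum.ext ?_⟩
      rw [hσ]
      show (default : PrimeSpectrum M).asIdeal.comap π = RingHom.ker π
      rw [show (default : PrimeSpectrum M).asIdeal = ⊥ from
        (Ideal.eq_bot_or_top _).resolve_right (default : PrimeSpectrum M).isPrime.ne_top]
      rfl
    refine ⟨U, g, ⟨z, hz⟩, ⟨σ, MorphismProperty.Over.Hom.ext ?_⟩, rfl⟩
    show O.ι ≫ p₂.left = O.ι ≫ p₁.left ≫ Spec.map (CommRingCat.ofHom σ.toAlgHom.toRingHom)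
    have hr : Set.range (O.ι ≫ w).base ⊆ Set.range c.base := by
      rw [Scheme.Hom.comp_base, TopCat.coe_comp, Set.range_comp, Scheme.Opens.range_ι]
      exact Set.image_subset_iff.mpr fun _ h => h
    obtain ⟨v, hv⟩ : ∃ v, v ≫ c = O.ι ≫ w := ⟨_, IsOpenImmersion.lift_fac c (O.ι ≫ w) hr⟩
    have hw1 : w ≫ Spec.map (CommRingCat.ofHom (Algebra.TensorProduct.includeLeftRingHom : M →+* M ⊗[K] M)) = p₁.left :=
      (Category.assoc _ _ _).trans ((congrArg _ (pullbackSpecIso_hom_fst K M M)).trans (pullback.lift_fst _ _ _))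
    have hw2 : w ≫ Spec.map (CommRingCat.ofHom (Algebra.TensorProduct.includeRight.toRingHom : M →+* M ⊗[K] M)) = p₂.left :=
      (Category.assoc _ _ _).trans ((congrArg _ (pullbackSpecIso_hom_snd K M M)).trans (pullback.lift_snd _ _ _))
    have h1 : O.ι ≫ p₁.left = v := by
      have := congrArg (· ≫ Spec.map (CommRingCat.ofHom (Algebra.TensorProduct.includeLeftRingHom : M →+* M ⊗[K] M))) hv
      simp only [Category.assoc, hw1] at this
      rw [show c ≫ Spec.map (CommRingCat.ofHom (Algebra.TensorProduct.includeLeftRingHom : M →+* M ⊗[K] M)) = 𝟙 V by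
        rw [← Spec.map_comp, ← Spec.map_id]
        exact congrArg Spec.map (CommRingCat.hom_ext (RingHom.ext fun x => by simp [π])), Category.comp_id] at this
      exact this.symm
    have h2 := congrArg (· ≫ Spec.map (CommRingCat.ofHom (Algebra.TensorProduct.includeRight.toRingHom : M →+* M ⊗[K] M))) hv
    simp only [Category.assoc, hw2] at h2
    rw [show c ≫ Spec.map (CommRingCat.ofHom (Algebra.TensorProduct.includeRight.toRingHom : M →+* M ⊗[K] M)) =
        Spec.map (CommRingCat.ofHom σ.toAlgHom.toRingHom) by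
      rw [← Spec.map_comp]
      exact congrArg Spec.map (CommRingCat.hom_ext (RingHom.ext fun x => by simp [π]))] at h2
    exact h2.symm.trans ((congrArg (· ≫ Spec.map (CommRingCat.ofHom σ.toAlgHom.toRingHom)) h1).symm.trans (Category.assoc _ _ _))
  · rintro W g ⟨σ, hg⟩
    show F.obj.map g.op (F.obj.map p₁.op s) = F.obj.map g.op (F.obj.map p₂.op s)
    have key : ∀ {A B C : (Spec (CommRingCat.of K)).Etale} (a : A ⟶ B) (b : B ⟶ C) (x : F.obj.obj (op C)),
        F.obj.map a.op (F.obj.map b.op x) = F.obj.map (a ≫ b).op x := fun a b x => by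
      rw [op_comp, Functor.map_comp]; rfl
    rw [key, key, hg, ← Category.assoc, ← key (g ≫ p₁) (gm σ), hs σ (gm σ) rfl]

/-- The transfer section. -/
theorem exists_transfer [AlgebraicGeometry.Etale (str K L)] (ρ : H18Et.FreeSheaf.obj (str K L) ⟶ EtCoh.top _) :
    ∃ s : EtCoh.const (Spec (CommRingCat.of K)) ℤ ⟶ (H18Et.FreeSheaf.free _).obj (H18Et.FreeSheaf.obj (str K L)),
      s ≫ H18Et.FreeSheaf.aug (str K L) ρ = Module.finrank K L • 𝟙 _ := by
  classical
  let Ω := SeparableClosure K
  haveI : IsGalois K Ω := inferInstance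
  let M := IntermediateField.normalClosure K L Ω
  haveI : IsGalois K M := IsGalois.normalClosure K L Ω
  haveI : FiniteDimensional K M := inferInstance
  let V := H18Et.FreeSheaf.obj (str K L)
  let Y := sp K M
  let F := (H18Et.FreeSheaf.free (Spec (CommRingCat.of K))).obj V
  let one : F.obj.obj (op V) := H18Et.FreeSheaf.homEquiv V F (𝟙 F)
  let hm : (L →ₐ[K] M) → (Y ⟶ V) := fun φ => MorphismProperty.Over.homMk
    (Spec.map (CommRingCat.ofHom φ.toRingHom)) (by
      show Spec.map _ ≫ (EtCoh.top (Spec (CommRingCat.of L))).hom ≫ Spec.map _ = Spec.map _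
      rw [show (EtCoh.top (Spec (CommRingCat.of L))).hom = 𝟙 _ from rfl]
      erw [Category.id_comp]
      rw [← Spec.map_comp]
      exact congrArg Spec.map (CommRingCat.hom_ext (RingHom.ext fun x => φ.commutes x)))
  let sM : F.obj.obj (op Y) := ∑ φ : L →ₐ[K] M, F.obj.map (hm φ).op one
  obtain ⟨t, ht⟩ := exists_descent K M F sM fun σ g hg => by
    rw [map_sum]
    refine Fintype.sum_equiv (AlgEquiv.arrowCongr AlgEquiv.refl σ) _ _ fun φ => ?_
    rw [← ConcreteCategory.comp_apply, ← Functor.map_comp, ← op_comp,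
      show g ≫ hm φ = hm (AlgEquiv.arrowCongr AlgEquiv.refl σ φ) from MorphismProperty.Over.Hom.ext (by
        show g.left ≫ Spec.map _ = Spec.map _
        rw [hg, ← Spec.map_comp]
        rfl)]
  let s := Ext.addEquiv₀ ((Sheaf.H.equiv₀ F (EtCore.topIsTerminal _)).symm t)
  have hs : Sheaf.H.equiv₀ F (EtCore.topIsTerminal _) (Ext.mk₀ s) = t := by
    rw [show Ext.mk₀ s = (Sheaf.H.equiv₀ F (EtCore.topIsTerminal _)).symm t from Ext.addEquiv₀.symm_apply_apply _,
      AddEquiv.apply_symm_apply]
  refine ⟨s, ?_⟩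
  let C := EtCoh.const (Spec (CommRingCat.of K)) ℤ
  let oneC := Sheaf.H.equiv₀ C (EtCore.topIsTerminal _) (Ext.mk₀ (𝟙 C))
  let aug := H18Et.FreeSheaf.aug (str K L) ρ
  have h1 := Sheaf.H.equiv₀_naturality (EtCore.topIsTerminal _) aug (Ext.mk₀ s)
  rw [hs, Sheaf.H.map_apply, Ext.mk₀_comp_mk₀] at h1
  refine (Ext.mk₀_bijective _ _).injective ((Sheaf.H.equiv₀ C (EtCore.topIsTerminal _)).injective
    (res_injective K M C ?_))
  rw [← h1, show Ext.mk₀ (Module.finrank K L • 𝟙 C) = Module.finrank K L • Ext.mk₀ (𝟙 C) from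
    map_nsmul Ext.addEquiv₀.symm _ _, map_nsmul, map_nsmul]
  refine (NatTrans.naturality_apply aug.hom ((EtCore.topIsTerminal _).from Y).op t).symm.trans ?_
  rw [ht, map_sum]
  have hterm : ∀ φ : L →ₐ[K] M, aug.hom.app (op Y) (F.obj.map (hm φ).op one) =
      C.obj.map ((EtCore.topIsTerminal _).from Y).op oneC := fun φ => by
    rw [NatTrans.naturality_apply, ← H18Et.FreeSheaf.homEquiv_comp, Category.id_comp,
      ← Category.comp_id aug, H18Et.FreeSheaf.homEquiv_aug_comp, ← ConcreteCategory.comp_apply, ← Functor.map_comp, ← op_comp,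
      (EtCore.topIsTerminal _).hom_ext (hm φ ≫ ρ) ((EtCore.topIsTerminal _).from Y)]
  rw [Finset.sum_congr rfl fun φ _ => hterm φ, Finset.sum_const, Finset.card_univ]
  congr 1
  rw [← Nat.card_eq_fintype_card, Nat.card_congr (normalClosure.algHomEquiv K L Ω),
    Nat.card_eq_fintype_card]
  exact AlgHom.card_of_splits K L Ω fun x => IsSepClosed.splits_of_separable _
    (Polynomial.Separable.map (Algebra.IsSeparable.isSeparable K x))

/-- A class over `K` killed by `L` is killed by `[L : K]`. -/
theorem finrank_nsmul_eq_zero [PreservesFiniteLimits (EtCoh.pull (str K L))]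
    (F : EtCoh.Ab (Spec (CommRingCat.of K))) (i : ℕ) (α : EtCoh.H (Spec (CommRingCat.of K)) F i)
    (hα : EtCore.Hpull (str K L) F i α = 0) : Module.finrank K L • α = 0 := by
  haveI := etale_str K L
  let ρ : H18Et.FreeSheaf.obj (str K L) ⟶ EtCoh.top _ := (EtCore.topIsTerminal _).from _
  rw [H18Et.FreeSheaf.Hpull_eq_phi (str K L) ρ] at hα
  have h0 := (H18Et.FreeSheaf.phi_bijective (str K L) F i).1 (hα.trans (map_zero _).symm)
  obtain ⟨s, hs⟩ := exists_transfer K L ρ
  have h1 := congrArg (fun x => (Ext.mk₀ s).comp x (zero_add i)) h0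
  simp only [Ext.comp_zero, Ext.mk₀_comp_mk₀_assoc, hs] at h1
  rw [show Ext.mk₀ (Module.finrank K L • 𝟙 (EtCoh.const (Spec (CommRingCat.of K)) ℤ)) =
    Module.finrank K L • Ext.mk₀ (𝟙 _) from map_nsmul Ext.addEquiv₀.symm _ _] at h1
  rw [← Ext.bilinearComp_apply_apply (h := zero_add i), map_nsmul, AddMonoidHom.nsmul_apply, Ext.bilinearComp_apply_apply, Ext.mk₀_id_comp] at h1
  exact h1

end Groth.Agent.H9GalCoh.Transfer
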